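import Groth.Agent.LinRed.Integral
import Groth.Prelude.Def_ComodDual

/-!
# Criteria for linear reductivity: invariant functionals, exactness of invariants, Hochschild cohomology
-/

set_option autoImplicit false
universe u v w w'

open TensorProduct

namespace Groth.Agent.LinRed

open Groth.Agent.Comod

section Dual

variable {k : Type u} [Field k] {A : Type v} [CommRing A] [HopfAlgebra k A]
variable {V : Type w} [AddCommGroup V] [Module k V] [Module.Finite k V] (c : HopfRep.Comod k A V)

/-- the coaction on the linear dual -/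
noncomputable def dualCoact : Module.Dual k V →ₗ[k] Module.Dual k V ⊗[k] A :=
  (LinearEquiv.ofBijective (dualTensorHom k V A) dualTensorHom_bijective).symm.toLinearMap ∘ₗ
    { toFun := ComodTens.dualCoactFun c
      map_add' := ComodTens.dualCoactFun_add c
      map_smul' := fun r f => ComodTens.dualCoactFun_smul c r f }

theorem slL_applyₗ_dualCoact (f : Module.Dual k V) (v : V) :
    slL (LinearMap.applyₗ v) (dualCoact c f) = HopfAlgebraStruct.antipode k (slL f (c.coact v)) := by
  have h1 : ∀ y : Module.Dual k V ⊗[k] A, slL (LinearMap.applyₗ v) y = dualTensorHom k V A y v := by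
    intro y
    induction y with
    | zero => simp
    | tmul p q => simp
    | add y z hy hz => simp only [map_add, LinearMap.add_apply, hy, hz]
  have h2 : dualTensorHom k V A (dualCoact c f) = ComodTens.dualCoactFun c f :=
    (LinearEquiv.ofBijective (dualTensorHom k V A) dualTensorHom_bijective).apply_symm_apply _
  rw [h1, h2, ComodTens.dualCoactFun_apply]
  generalize c.coact v = y
  induction y with
  | zero => simp
  | tmul p q => simp
  | add y z hy hz => simp only [map_add, hy, hz]

theorem eq_of_forall_slL_applyₗ {B : Type w'} [AddCommGroup B] [Module k B]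
    {x y : Module.Dual k V ⊗[k] B}
    (h : ∀ v : V, slL (LinearMap.applyₗ v) x = slL (LinearMap.applyₗ v) y) : x = y := by
  apply (dualTensorHom_bijective (R := k) (M := V) (N := B)).1
  have h1 : ∀ (v : V) (z : Module.Dual k V ⊗[k] B), slL (LinearMap.applyₗ v) z = dualTensorHom k V B z v := by
    intro v z
    induction z with
    | zero => simp
    | tmul p q => simp
    | add y z hy hz => simp only [map_add, LinearMap.add_apply, hy, hz]
  exact LinearMap.ext fun v => by rw [← h1, ← h1]; exact h v

/-- the contragredient comodule -/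
@[reducible] noncomputable def dualComod : HopfRep.Comod k A (Module.Dual k V) where
  coact := dualCoact c
  coassoc := by
    apply LinearMap.ext
    intro f
    simp only [LinearMap.comp_apply, LinearEquiv.coe_coe]
    refine eq_of_forall_slL_applyₗ fun v => ?_
    let S := HopfAlgebraStruct.antipode k (A := A)
    let x := dualCoact c f
    let H : V ⊗[k] (A ⊗[k] A) →ₗ[k] A ⊗[k] A :=
      TensorProduct.map S S ∘ₗ (TensorProduct.comm k A A).toLinearMap ∘ₗ slL f
    let Ψ : (Module.Dual k V ⊗[k] A) →ₗ[k] V ⊗[k] A →ₗ[k] A ⊗[k] A :=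
      TensorProduct.lift (LinearMap.mk₂ k (fun φ b => (TensorProduct.mk k A A).flip b ∘ₗ S ∘ₗ slL φ)
        (fun φ ψ b => LinearMap.ext fun y => by simp [slL, LinearMap.rTensor_add, add_tmul])
        (fun r φ b => LinearMap.ext fun y => by simp [slL, LinearMap.rTensor_smul, TensorProduct.smul_tmul'])
        (fun φ b b' => LinearMap.ext fun y => by simp [tmul_add])
        (fun r φ b => LinearMap.ext fun y => by simp [TensorProduct.tmul_smul]))
    have e1 : ∀ z : Module.Dual k V ⊗[k] A,
        slL (LinearMap.applyₗ v) (TensorProduct.assoc k _ A A ((dualCoact c).rTensor A z)) = Ψ z (c.coact v) := by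
      intro z
      induction z with
      | zero => simp
      | tmul φ b =>
        rw [LinearMap.rTensor_tmul]
        have : ∀ (w : Module.Dual k V ⊗[k] A),
            slL (LinearMap.applyₗ v) (TensorProduct.assoc k _ A A (w ⊗ₜ[k] b)) =
              slL (LinearMap.applyₗ v) w ⊗ₜ[k] b := by
          intro w
          induction w with
          | zero => simp
          | tmul p q => simp [TensorProduct.smul_tmul']
          | add y z hy hz => simp only [map_add, add_tmul, hy, hz]
        rw [this, slL_applyₗ_dualCoact]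
        rfl
      | add y z hy hz => simp only [map_add, LinearMap.add_apply, hy, hz]
    have e2 : ∀ (z : Module.Dual k V ⊗[k] A) (y : V ⊗[k] A), Ψ z y =
        TensorProduct.lift (LinearMap.mk₂ k (fun u b => S b ⊗ₜ[k] slL (LinearMap.applyₗ u) z)
          (fun u u' b => by simp [slL, LinearMap.rTensor_add, tmul_add])
          (fun r u b => by simp [slL, LinearMap.rTensor_smul, TensorProduct.tmul_smul])
          (fun u b b' => by simp [add_tmul])
          (fun r u b => by simp [TensorProduct.smul_tmul'])) y := by
      intro z y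
      induction z with
      | zero =>
        induction y with
        | zero => simp
        | tmul p q => simp
        | add y z hy hz => simp only [map_add, ← hy, ← hz]
      | tmul φ b =>
        induction y with
        | zero => simp
        | tmul p q => simp [Ψ, TensorProduct.smul_tmul', TensorProduct.tmul_smul]
        | add y z hy hz => simp only [map_add, ← hy, ← hz]
      | add z z' hz hz' =>
        rw [map_add, LinearMap.add_apply, hz, hz']
        clear hz hz'
        induction y with
        | zero => simp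
        | tmul p q => simp only [map_add, TensorProduct.lift.tmul, LinearMap.mk₂_apply, tmul_add] <;> rfl
        | add y z hy hz => simp only [map_add] at hy hz ⊢; rw [← hy, ← hz]; abel
    have e3 : ∀ y : V ⊗[k] A,
        TensorProduct.lift (LinearMap.mk₂ k (fun u b => S b ⊗ₜ[k] slL (LinearMap.applyₗ u) x)
          (fun u u' b => by simp [slL, LinearMap.rTensor_add, tmul_add])
          (fun r u b => by simp [slL, LinearMap.rTensor_smul, TensorProduct.tmul_smul])
          (fun u b b' => by simp [add_tmul])
          (fun r u b => by simp [TensorProduct.smul_tmul'])) y =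
        H (TensorProduct.assoc k V A A (c.coact.rTensor A y)) := by
      intro y
      induction y with
      | zero => simp
      | tmul u b =>
        simp only [TensorProduct.lift.tmul, LinearMap.mk₂_apply, LinearMap.rTensor_tmul, x, slL_applyₗ_dualCoact]
        generalize c.coact u = z
        induction z with
        | zero => simp
        | tmul p q => simp [H, S, TensorProduct.tmul_smul]
        | add y z hy hz => simp only [map_add, tmul_add, add_tmul, hy, hz]
      | add y z hy hz => simp only [map_add, hy, hz]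
    have e4 : ∀ y : V ⊗[k] A, H ((Coalgebra.comul (R := k)).lTensor V y) =
        Coalgebra.comul (R := k) (S (slL f y)) := by
      intro y
      induction y with
      | zero => simp
      | tmul u b => simp [H, S, Groth.Agent.HopfLib.comul_antipode]
      | add y z hy hz => simp only [map_add, hy, hz]
    have e5 : ∀ z : Module.Dual k V ⊗[k] A,
        slL (LinearMap.applyₗ v) ((Coalgebra.comul (R := k)).lTensor (Module.Dual k V) z) =
          Coalgebra.comul (R := k) (slL (LinearMap.applyₗ v) z) := by
      intro z
      induction z with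
      | zero => simp
      | tmul p q => simp
      | add y z hy hz => simp only [map_add, hy, hz]
    have hco := LinearMap.congr_fun c.coassoc v
    simp only [LinearMap.comp_apply, LinearEquiv.coe_coe] at hco
    rw [e1, e2, e3, hco, e4, e5, slL_applyₗ_dualCoact]
  counit_comp := by
    apply LinearMap.ext
    intro f
    simp only [LinearMap.comp_apply, LinearMap.flip_apply, TensorProduct.mk_apply]
    refine eq_of_forall_slL_applyₗ fun v => ?_
    have e1 : ∀ z : Module.Dual k V ⊗[k] A,
        slL (LinearMap.applyₗ v) ((Coalgebra.counit (R := k) (A := A)).lTensor (Module.Dual k V) z) =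
          Coalgebra.counit (R := k) (slL (LinearMap.applyₗ v) z) := by
      intro z
      induction z with
      | zero => simp
      | tmul p q => simp
      | add y z hy hz => simp only [map_add, hy, hz]
    rw [e1, slL_applyₗ_dualCoact, HopfAlgebra.counit_antipode, slL_tmul, smul_eq_mul, mul_one]
    have e2 : ∀ y : V ⊗[k] A, Coalgebra.counit (R := k) (slL f y) = f (slR (Coalgebra.counit (R := k)) y) := by
      intro y
      induction y with
      | zero => simp
      | tmul p q => simp [mul_comm]
      | add y z hy hz => simp only [map_add, hy, hz]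
    letI := c
    rw [e2]
    exact congrArg f (actL_counit (A := A) v)

theorem isDual_dualComod : ComodTens.Comod.IsDual c (dualComod c) := fun _ =>
  (LinearEquiv.ofBijective (dualTensorHom k V A) dualTensorHom_bijective).apply_symm_apply _

end Dual

section Criteria

variable {k : Type u} [Field k] {A : Type v} [CommRing A] [HopfAlgebra k A]

/-- the criterion by invariant linear forms -/
theorem exists_isNormIntegral_of_fixedPt
    (h : ∀ (V : Type v) [AddCommGroup V] [Module k V] [HopfRep.Comod k A V], Module.Finite k V →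
        ∀ π : V →ₗ[k] k, Function.Surjective π →
          LinearMap.rTensor A π ∘ₗ HopfRep.Comod.coact (k := k) (A := A) (V := V) =
            (TensorProduct.mk k k A).flip (1 : A) ∘ₗ π →
          ∃ v ∈ HopfRep.fixedPts k A V, π v ≠ 0) :
    ∃ α : A →ₗ[k] k, IsNormIntegral α := by
  refine exists_isNormIntegral_of_forall_finite fun M hM hMc h1 => ?_
  letI cM : HopfRep.Comod k A M := ComodSub.Comod.restr (HopfRep.Comod.regular k A) M hMc
  have hc : ∀ b : M, M.subtype.rTensor A (cM.coact b) =
      Coalgebra.comul (R := k) (b : A) := fun b => ComodSub.restr_coact_coe _ M hMc b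
  let one : M := ⟨1, h1⟩
  obtain ⟨e⟩ : Nonempty (Module.Dual k M ≃ₗ[k] M) :=
    FiniteDimensional.nonempty_linearEquiv_of_finrank_eq Subspace.dual_finrank_eq
  letI cU : HopfRep.Comod k A M := ComodTens.Comod.ofEquiv e (dualComod cM)
  have hone : cM.coact one = one ⊗ₜ[k] (1 : A) := by
    apply ComodSub.rTensor_subtype_injective (A := A) M
    rw [hc]
    simp [one, Bialgebra.comul_one, Algebra.TensorProduct.one_def]
  let π : M →ₗ[k] k := LinearMap.applyₗ one ∘ₗ e.symm.toLinearMap
  have hπs : Function.Surjective π := by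
    intro r
    have he : one ≠ 0 := fun hz => one_ne_zero (α := k) (by
      simpa [one] using congrArg (Coalgebra.counit (R := k) (A := A)) (congrArg Subtype.val hz))
    obtain ⟨f, hf⟩ := Module.Projective.exists_dual_ne_zero k he
    refine ⟨e ((r / f one) • f), ?_⟩
    simp [π, div_mul_cancel₀ _ hf]
  have hπ : LinearMap.rTensor A π ∘ₗ cU.coact = (TensorProduct.mk k k A).flip (1 : A) ∘ₗ π := by
    apply LinearMap.ext
    intro u
    have h2 : π.rTensor A (cU.coact u) = (LinearMap.applyₗ one).rTensor A (dualCoact cM (e.symm u)) := by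
      show π.rTensor A ((e : Module.Dual k M →ₗ[k] M).rTensor A (dualCoact cM (e.symm u))) = _
      rw [← LinearMap.comp_apply, ← LinearMap.rTensor_comp]
      congr 2
      ext φ
      simp [π]
    simp only [LinearMap.comp_apply, h2, LinearMap.flip_apply, TensorProduct.mk_apply]
    have h3 : ∀ z : Module.Dual k M ⊗[k] A, (LinearMap.applyₗ one).rTensor A z =
        1 ⊗ₜ[k] slL (LinearMap.applyₗ one) z := by
      intro z
      induction z with
      | zero => simp
      | tmul p q =>
        rw [LinearMap.rTensor_tmul, slL_tmul, TensorProduct.tmul_smul, TensorProduct.smul_tmul', smul_eq_mul,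
          mul_one]
      | add y z hy hz => simp only [map_add, tmul_add, hy, hz]
    rw [h3, slL_applyₗ_dualCoact, hone, slL_tmul, map_smul, HopfAlgebra.antipode_one, ← TensorProduct.smul_tmul]
    simp [π]
  obtain ⟨u, hu, hu0⟩ := @h M _ _ cU hM π hπs hπ
  let φ : Module.Dual k M := e.symm u
  have hφ : dualCoact cM φ = φ ⊗ₜ[k] (1 : A) := by
    apply (TensorProduct.congr e (LinearEquiv.refl k A)).injective
    have hu' : (e : Module.Dual k M →ₗ[k] M).rTensor A (dualCoact cM φ) = u ⊗ₜ[k] (1 : A) := hu
    show (e : Module.Dual k M →ₗ[k] M).rTensor A (dualCoact cM φ) = _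
    rw [hu']
    simp [φ]
  have hc0 : φ one ≠ 0 := hu0
  obtain ⟨r, hr⟩ := LinearMap.exists_leftInverse_of_injective M.subtype (Submodule.ker_subtype M)
  have hr' : ∀ b : M, r (b : A) = b := fun b => LinearMap.congr_fun hr b
  refine ⟨(φ one)⁻¹ • (φ ∘ₗ r), ?_, fun b hb => ?_⟩
  · rw [LinearMap.smul_apply, LinearMap.comp_apply, show (1 : A) = (one : A) from rfl, hr', smul_eq_mul,
      inv_mul_cancel₀ hc0]
  · have h4 := slL_applyₗ_dualCoact cM φ ⟨b, hb⟩
    rw [hφ, slL_tmul] at h4
    have h5 : slL φ (cM.coact ⟨b, hb⟩) = φ ⟨b, hb⟩ • (1 : A) := by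
      have := congrArg (HopfAlgebraStruct.antipode k) h4
      rw [Groth.Agent.HopfLib.antipode_antipode, map_smul, HopfAlgebra.antipode_one] at this
      exact this.symm
    have h6 : ∀ y : M ⊗[k] A,
        slL ((φ one)⁻¹ • (φ ∘ₗ r)) (M.subtype.rTensor A y) = (φ one)⁻¹ • slL φ y := by
      intro y
      induction y with
      | zero => simp
      | tmul p q => simp [hr' (p : M), smul_smul]
      | add y z hy hz => simp only [map_add, smul_add, hy, hz]
    rw [show b = ((⟨b, hb⟩ : M) : A) from rfl, ← hc, h6, h5, LinearMap.smul_apply, LinearMap.comp_apply, hr',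
      smul_smul, smul_eq_mul]

/-- exactness of invariants on finite representations gives the criterion by invariant forms -/
theorem fixedPt_of_lift
    (h : ∀ (V W : Type v) [AddCommGroup V] [Module k V] [HopfRep.Comod k A V]
        [AddCommGroup W] [Module k W] [HopfRep.Comod k A W] (φ : V →ₗ[k] W), Module.Finite k V →
        Hoch.IsComodHom A φ → Function.Surjective φ →
          ∀ w ∈ HopfRep.fixedPts k A W, ∃ v ∈ HopfRep.fixedPts k A V, φ v = w)
    (V : Type v) [AddCommGroup V] [Module k V] [cV : HopfRep.Comod k A V] (hV : Module.Finite k V)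
    (π : V →ₗ[k] k) (hs : Function.Surjective π)
    (hπ : LinearMap.rTensor A π ∘ₗ HopfRep.Comod.coact (k := k) (A := A) (V := V) =
      (TensorProduct.mk k k A).flip (1 : A) ∘ₗ π) :
    ∃ v ∈ HopfRep.fixedPts k A V, π v ≠ 0 := by
  obtain ⟨v₁, hv₁⟩ := hs 1
  have hK : HopfRep.IsSubcomod (k := k) (A := A) (LinearMap.ker π) :=
    @isSubcomod_ker k _ A _ _ _ V _ _ cV k _ _ (HopfRep.Comod.trivial k A k) _ π hπ.symm
  letI cW : HopfRep.Comod k A (V ⧸ LinearMap.ker π) := ComodSub.Comod.quot cV _ hK
  have hw : (LinearMap.ker π).mkQ v₁ ∈ HopfRep.fixedPts k A (V ⧸ LinearMap.ker π) := by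
    show (LinearMap.ker π).mkQ.rTensor A (cV.coact v₁) = (LinearMap.ker π).mkQ v₁ ⊗ₜ[k] (1 : A)
    have hfac : ((LinearMap.ker π).liftQ π le_rfl).rTensor A
        ((LinearMap.ker π).mkQ.rTensor A (cV.coact v₁)) =
        ((LinearMap.ker π).liftQ π le_rfl).rTensor A ((LinearMap.ker π).mkQ v₁ ⊗ₜ[k] (1 : A)) := by
      rw [← LinearMap.comp_apply, ← LinearMap.rTensor_comp, Submodule.liftQ_mkQ, LinearMap.rTensor_tmul]
      exact LinearMap.congr_fun hπ v₁
    exact Module.Flat.rTensor_preserves_injective_linearMap _
      (LinearMap.ker_eq_bot.1 (Submodule.ker_liftQ_eq_bot _ _ le_rfl le_rfl)) hfac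
  obtain ⟨v, hv, hv'⟩ := h V (V ⧸ LinearMap.ker π) (LinearMap.ker π).mkQ hV
    (ComodSub.isComodHom_mkQ cV _ hK) (Submodule.mkQ_surjective _) _ hw
  refine ⟨v, hv, ?_⟩
  have : π v = π v₁ := by
    have h2 := congrArg ((LinearMap.ker π).liftQ π le_rfl) hv'
    simpa using h2
  rw [this, hv₁]
  exact one_ne_zero

end Criteria

section Cochains

variable {k : Type u} [Field k] {A : Type v} [CommRing A] [HopfAlgebra k A]
variable {V : Type v} [AddCommGroup V] [Module k V] [HopfRep.Comod k A V]

theorem d_one_apply (x : V ⊗[k] A) :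
    (Hoch.d k A V 1 x : (V ⊗[k] A) ⊗[k] A) =
      (HopfRep.Comod.coact (k := k) (A := A) (V := V)).rTensor A x -
        (TensorProduct.assoc k V A A).symm ((Coalgebra.comul (R := k)).lTensor V x) + x ⊗ₜ[k] (1 : A) := by
  induction x with
  | zero => simp
  | tmul u b =>
    simp only [Hoch.d_succ, Hoch.d_zero, LinearMap.add_apply, LinearMap.smul_apply, LinearMap.rTensor_tmul,
      LinearMap.sub_apply, LinearMap.flip_apply, TensorProduct.mk_apply, Hoch.tail_tmul, zero_add, pow_one,
      neg_smul, one_smul, LinearMap.lTensor_tmul, map_sub, tmul_sub, sub_tmul, TensorProduct.assoc_symm_tmul]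
    abel
  | add y z hy hz =>
    rw [map_add, hy, hz]
    simp only [map_add, add_tmul]
    abel

theorem d_one_d_zero (v : V) : Hoch.d k A V 1 (Hoch.d k A V 0 v) = 0 := by
  rw [d_one_apply, Hoch.d_zero_apply]
  have hco := LinearMap.congr_fun (HopfRep.Comod.coassoc (k := k) (A := A) (V := V)) v
  simp only [LinearMap.comp_apply, LinearEquiv.coe_coe] at hco
  rw [map_sub, map_sub, map_sub, ← hco, LinearEquiv.symm_apply_apply, LinearMap.rTensor_tmul,
    LinearMap.lTensor_tmul, Bialgebra.comul_one, Algebra.TensorProduct.one_def, TensorProduct.assoc_symm_tmul,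
    sub_tmul]
  abel

/-- vanishing of the first cohomology gives exactness of invariants -/
theorem lift_of_cocycles_one
    (h : ∀ (V : Type v) [AddCommGroup V] [Module k V] [HopfRep.Comod k A V], Module.Finite k V →
        Hoch.cocycles k A V 1 ≤ Hoch.coboundaries k A V 1)
    (V W : Type v) [AddCommGroup V] [Module k V] [cV : HopfRep.Comod k A V]
    [AddCommGroup W] [Module k W] [HopfRep.Comod k A W] (φ : V →ₗ[k] W) (hV : Module.Finite k V)
    (hφ : Hoch.IsComodHom A φ) (hs : Function.Surjective φ) (w : W) (hw : w ∈ HopfRep.fixedPts k A W) :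
    ∃ v ∈ HopfRep.fixedPts k A V, φ v = w := by
  obtain ⟨v₀, rfl⟩ := hs w
  let K := LinearMap.ker φ
  have hK : HopfRep.IsSubcomod (k := k) (A := A) K := isSubcomod_ker hφ
  letI cK : HopfRep.Comod k A K := ComodSub.Comod.restr cV K hK
  obtain ⟨c, hc⟩ := (rTensor_exact A (LinearMap.exact_subtype_ker_map φ) hs (Hoch.d k A V 0 v₀)).1 (by
    rw [Hoch.d_zero_apply, map_sub, LinearMap.rTensor_tmul]
    have h2 := LinearMap.congr_fun hφ v₀
    simp only [LinearMap.comp_apply] at h2
    rw [← h2, show HopfRep.Comod.coact (k := k) (A := A) (φ v₀) = φ v₀ ⊗ₜ[k] (1 : A) from hw, sub_self])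
  have hinj : Function.Injective ((K.subtype.rTensor A).rTensor A) :=
    Module.Flat.rTensor_preserves_injective_linearMap _ (ComodSub.rTensor_subtype_injective K)
  have hcz : c ∈ Hoch.cocycles k A K 1 := by
    rw [Hoch.cocycles, LinearMap.mem_ker]
    apply hinj
    rw [map_zero, d_one_apply]
    have hn : ∀ z : K ⊗[k] A,
        (K.subtype.rTensor A).rTensor A ((HopfRep.Comod.coact (k := k) (A := A) (V := K)).rTensor A z -
          (TensorProduct.assoc k K A A).symm ((Coalgebra.comul (R := k)).lTensor K z) + z ⊗ₜ[k] (1 : A)) =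
        Hoch.d k A V 1 (K.subtype.rTensor A z) := by
      intro z
      rw [d_one_apply]
      induction z with
      | zero => simp
      | tmul p q =>
        simp only [map_add, map_sub, LinearMap.rTensor_tmul, LinearMap.lTensor_tmul, Submodule.subtype_apply]
        rw [ComodSub.restr_coact_coe]
        congr 2
        generalize Coalgebra.comul (R := k) q = y
        induction y with
        | zero => simp
        | tmul s t => simp
        | add y z hy hz => simp only [tmul_add, map_add, hy, hz]
      | add y z hy hz =>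
        simp only [map_add, map_sub, add_tmul] at hy hz ⊢
        linear_combination (norm := abel) hy + hz
    rw [hn, hc]
    exact d_one_d_zero v₀
  obtain ⟨u, hu⟩ := h K (inferInstance) hcz
  refine ⟨v₀ - (u : V), ?_, by rw [map_sub, LinearMap.mem_ker.1 u.2, sub_zero]⟩
  have h3 : K.subtype.rTensor A (Hoch.d k A K 0 u) = Hoch.d k A V 0 (u : V) := by
    rw [Hoch.d_zero_apply, Hoch.d_zero_apply, map_sub, LinearMap.rTensor_tmul, ComodSub.restr_coact_coe,
      Submodule.subtype_apply]
  rw [hu, hc] at h3
  have h4 : Hoch.d k A V 0 (v₀ - (u : V)) = 0 := by rw [map_sub, h3, sub_self]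
  exact sub_eq_zero.1 ((Hoch.d_zero_apply k A V (v₀ - (u : V))).symm.trans h4)

/-- cochain homotopy from a normalised integral -/
theorem cocycles_le_coboundaries {α : A →ₗ[k] k} (hα : IsNormIntegral α) (n : ℕ) (hn : 1 ≤ n) :
    Hoch.cocycles k A V n ≤ Hoch.coboundaries k A V n := by
  obtain ⟨n, rfl⟩ : ∃ m, n = m + 1 := ⟨n - 1, by omega⟩
  intro y hy
  have key : ∀ z : (Hoch.cochain k A V n : Type v) ⊗[k] A,
      slR α ((Hoch.d k A V n).rTensor A z + ((-1 : k) ^ (n + 1)) • Hoch.tail k A (Hoch.cochain k A V n) z) =
        Hoch.d k A V n (slR α z) + ((-1 : k) ^ n) • z := by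
    intro z
    induction z with
    | zero => simp
    | tmul m a =>
      have h2 : slR α ((TensorProduct.assoc k (Hoch.cochain k A V n) A A).symm
          (m ⊗ₜ Coalgebra.comul (R := k) a)) = m ⊗ₜ[k] slR α (Coalgebra.comul (R := k) a) := by
        generalize Coalgebra.comul (R := k) a = y
        induction y with
        | zero => simp
        | tmul s t => simp [TensorProduct.tmul_smul]
        | add y z hy hz => simp only [tmul_add, map_add, hy, hz]
      rw [map_add, map_smul, LinearMap.rTensor_tmul, slR_tmul, slR_tmul, map_smul, Hoch.tail_tmul, tmul_sub,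
        tmul_sub, map_sub, map_sub, map_sub, map_sub, h2, hα.left]
      simp only [TensorProduct.assoc_symm_tmul, slR_tmul, hα.map_one, one_smul, TensorProduct.tmul_smul,
        pow_succ, mul_neg, mul_one, neg_smul, sub_sub]
      module
    | add y z hy hz =>
      simp only [map_add, smul_add] at hy hz ⊢
      linear_combination (norm := abel) hy + hz
  have h := key y
  rw [← LinearMap.smul_apply, ← LinearMap.add_apply, ← Hoch.d_succ, LinearMap.mem_ker.1 hy, map_zero] at h
  refine ⟨-(((-1 : k) ^ n) • slR α y), ?_⟩
  rw [map_neg, map_smul, eq_neg_of_add_eq_zero_left h.symm, smul_neg, neg_neg, smul_smul, ← mul_pow,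
    neg_mul_neg, one_mul, one_pow, one_smul]

/-- the degree lowering map for induced comodules -/
noncomputable def indHomotopy (P : Type v) [AddCommGroup P] [Module k P] :
    (n : ℕ) → ((Hoch.cochain k A (Hoch.Ind k A P) (n + 1) : Type v) →ₗ[k]
      (Hoch.cochain k A (Hoch.Ind k A P) n : Type v))
  | 0 => (Hoch.Ind.equiv k A P).toLinearMap ∘ₗ (Hoch.Ind.counit k A P).rTensor A
  | n + 1 => (indHomotopy P n).rTensor A

theorem tail_natural {M N : Type v} [AddCommGroup M] [Module k M] [AddCommGroup N] [Module k N]
    (f : M →ₗ[k] N) (z : M ⊗[k] A) :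
    (f.rTensor A).rTensor A (Hoch.tail k A M z) = Hoch.tail k A N (f.rTensor A z) := by
  induction z with
  | zero => simp
  | tmul m a =>
    rw [Hoch.tail_tmul, LinearMap.rTensor_tmul, Hoch.tail_tmul]
    generalize Coalgebra.comul (R := k) a - a ⊗ₜ 1 - 1 ⊗ₜ a = y
    induction y with
    | zero => simp
    | tmul s t => simp
    | add y z hy hz => simp only [tmul_add, map_add, hy, hz]
  | add y z hy hz => simp only [map_add, hy, hz]

theorem indBase (P : Type v) [AddCommGroup P] [Module k P] (x : P ⊗[k] A) (b : A) :
    let ε : P ⊗[k] A →ₗ[k] P :=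
      (TensorProduct.rid k P).toLinearMap ∘ₗ (Coalgebra.counit (R := k) (A := A)).lTensor P
    (ε.rTensor A).rTensor A
        ((Hoch.Ind.coactAux k A P x - x ⊗ₜ[k] (1 : A)) ⊗ₜ[k] b -
          Hoch.tail k A (P ⊗[k] A) (x ⊗ₜ[k] b)) +
      (Hoch.Ind.coactAux k A P (ε x ⊗ₜ[k] b) - (ε x ⊗ₜ[k] b) ⊗ₜ[k] (1 : A)) = x ⊗ₜ[k] b := by
  intro ε
  have h0 : ∀ x : P ⊗[k] A, ε.rTensor A (Hoch.Ind.coactAux k A P x) = x := by
    intro x
    induction x with
    | zero => simp
    | tmul p a =>
      rw [Hoch.Ind.coactAux_tmul]
      have : ∀ y : A ⊗[k] A, ε.rTensor A ((TensorProduct.assoc k P A A).symm (p ⊗ₜ y)) =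
          p ⊗ₜ[k] slL (Coalgebra.counit (R := k)) y := by
        intro y
        induction y with
        | zero => simp
        | tmul s t => simp [ε, TensorProduct.smul_tmul]
        | add y z hy hz => simp only [tmul_add, map_add, hy, hz]
      rw [this]
      simp [slL]
    | add y z hy hz => simp only [map_add, hy, hz]
  rw [map_sub, LinearMap.rTensor_tmul, map_sub, h0, tail_natural, LinearMap.rTensor_tmul, LinearMap.rTensor_tmul,
    Hoch.tail_tmul, Hoch.Ind.coactAux_tmul]
  simp only [tmul_sub, sub_tmul, map_sub, TensorProduct.assoc_symm_tmul]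
  abel

theorem indHomotopy_spec (P : Type v) [AddCommGroup P] [Module k P] (n : ℕ)
    (z : (Hoch.cochain k A (Hoch.Ind k A P) n : Type v) ⊗[k] A) :
    indHomotopy P (n + 1) (Hoch.d k A (Hoch.Ind k A P) (n + 1) z) +
      Hoch.d k A (Hoch.Ind k A P) n (indHomotopy P n z) = z := by
  induction n with
  | zero =>
    induction z with
    | zero => simp
    | tmul x b =>
      have hd : Hoch.d k A (Hoch.Ind k A P) 1 (x ⊗ₜ[k] b) =
          Hoch.d k A (Hoch.Ind k A P) 0 x ⊗ₜ[k] b -
            Hoch.tail k A (Hoch.cochain k A (Hoch.Ind k A P) 0) (x ⊗ₜ[k] b) := by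
        rw [Hoch.d_succ, LinearMap.add_apply, LinearMap.smul_apply, LinearMap.rTensor_tmul, pow_one,
          neg_smul, one_smul, sub_eq_add_neg]
      rw [hd]
      exact indBase (A := A) P x b
    | add y z hy hz =>
      simp only [map_add]
      linear_combination (norm := abel) hy + hz
  | succ n ih =>
    induction z with
    | zero => simp
    | tmul y b =>
      have h := ih y
      show (indHomotopy P (n + 1)).rTensor A
          (((Hoch.d k A (Hoch.Ind k A P) (n + 1)).rTensor A +
            ((-1 : k) ^ (n + 2)) • Hoch.tail k A (Hoch.cochain k A (Hoch.Ind k A P) (n + 1))) (y ⊗ₜ b)) +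
        ((Hoch.d k A (Hoch.Ind k A P) n).rTensor A + ((-1 : k) ^ (n + 1)) • Hoch.tail k A (Hoch.cochain k A (Hoch.Ind k A P) n))
          ((indHomotopy P n).rTensor A (y ⊗ₜ b)) = y ⊗ₜ b
      simp only [LinearMap.add_apply, LinearMap.smul_apply, LinearMap.rTensor_tmul, map_add, map_smul]
      rw [show (indHomotopy P (n + 1)).rTensor A (Hoch.tail k A _ (y ⊗ₜ b)) =
        Hoch.tail k A _ (indHomotopy P n y ⊗ₜ b) from tail_natural (indHomotopy P n) (y ⊗ₜ b)]
      conv_rhs => rw [← h, add_tmul]
      rw [pow_succ (-1 : k) (n + 1), mul_neg_one, neg_smul]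
      abel
    | add y z hy hz =>
      simp only [map_add]
      linear_combination (norm := abel) hy + hz

theorem cocycles_ind_le (P : Type v) [AddCommGroup P] [Module k P] (n : ℕ) (hn : 1 ≤ n) :
    Hoch.cocycles k A (Hoch.Ind k A P) n ≤ Hoch.coboundaries k A (Hoch.Ind k A P) n := by
  obtain ⟨n, rfl⟩ : ∃ m, n = m + 1 := ⟨n - 1, by omega⟩
  intro y hy
  refine ⟨indHomotopy P n y, ?_⟩
  have h := indHomotopy_spec (A := A) P n y
  rw [LinearMap.mem_ker.1 hy, map_zero, zero_add] at h
  exact h

end Cochains

end Groth.Agent.LinRed
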