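import Groth.Agent.LinRed.Orbit
import Groth.Agent.Cartier.Alg
import Mathlib.RingTheory.Smooth.Locus
import Mathlib.RingTheory.Smooth.Field
import Mathlib.RingTheory.HopfAlgebra.TensorProduct
import Mathlib.Algebra.TrivSqZeroExt.Basic
import Mathlib.FieldTheory.IsAlgClosed.AlgebraicClosure

/-!
# Reducedness of finitely generated Hopf algebras
-/

set_option autoImplicit false
universe u v

open TensorProduct WithConv

namespace Groth.Agent.LinRed

open Groth.Agent.Comod

section Local

variable {k : Type u} [CommRing k] {L : Type v} [CommRing L] [IsLocalRing L] [IsNoetherianRing L]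
  [Algebra k L] {B : Type v} [CommRing B] [IsLocalRing B] [Algebra k B]

/-- A split surjection of local rings with kernel inside the square of the maximal ideal is injective. -/
theorem ker_eq_bot_of_section (π : L →ₐ[k] B) (hπs : Function.Surjective π) (σ : B →ₐ[k] L)
    (hσ : ∀ b, π (σ b) = b) (hNM2 : RingHom.ker π ≤ IsLocalRing.maximalIdeal L ^ 2) :
    RingHom.ker π = ⊥ := by
  have hker : ∀ z, z ∈ RingHom.ker π ↔ π z = 0 := fun z => Iff.rfl
  have hNM : RingHom.ker π ≤ IsLocalRing.maximalIdeal L := hNM2.trans (Ideal.pow_le_self two_ne_zero)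
  revert hNM2 hNM hker
  generalize RingHom.ker π = N
  intro hNM2 hker hNM
  have hlocal : ∀ w ∈ IsLocalRing.maximalIdeal L, π w ∈ IsLocalRing.maximalIdeal B := by
    intro w hw hu
    obtain ⟨v, hv⟩ := hu.exists_right_inv
    obtain ⟨v', rfl⟩ := hπs v
    have h1 : w * v' - 1 ∈ N := (hker _).2 (by rw [map_sub, map_mul, map_one, hv, sub_self])
    have h2 := (IsLocalRing.maximalIdeal L).sub_mem ((IsLocalRing.maximalIdeal L).mul_mem_right v' hw) (hNM h1)
    rw [sub_sub_cancel] at h2
    exact (IsLocalRing.maximalIdeal.isMaximal L).ne_top ((Ideal.eq_top_iff_one _).2 h2)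
  have hσlocal : ∀ b ∈ IsLocalRing.maximalIdeal B, σ b ∈ IsLocalRing.maximalIdeal L := by
    intro b hb hu
    have h1 := hu.map π
    rw [hσ] at h1
    exact hb h1
  have hdec : ∀ z : L, z - σ (π z) ∈ N := fun z => (hker _).2 (by rw [map_sub, hσ, sub_self])
  -- on the square of the maximal ideal the decomposition lands in `M N`
  have hsq : ∀ z ∈ IsLocalRing.maximalIdeal L ^ 2, z - σ (π z) ∈ IsLocalRing.maximalIdeal L * N := by
    intro z hz
    rw [pow_two] at hz
    induction hz using Submodule.mul_induction_on' with
    | mem_mul_mem x hx y hy =>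
      rw [map_mul π, map_mul σ,
        show x * y - σ (π x) * σ (π y) = x * (y - σ (π y)) + σ (π y) * (x - σ (π x)) by ring]
      exact add_mem (Ideal.mul_mem_mul hx (hdec y))
        (Ideal.mul_mem_mul (hσlocal _ (hlocal y hy)) (hdec x))
    | add x _ y _ hx hy => rw [map_add π, map_add σ, add_sub_add_comm]; exact add_mem hx hy
  refine Submodule.eq_bot_of_le_smul_of_le_jacobson_bot (IsLocalRing.maximalIdeal L) N
    (IsNoetherian.noetherian _) ?_ (IsLocalRing.maximalIdeal_le_jacobson _)
  intro z hz
  have h := hsq z (hNM2 hz)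
  rw [(hker z).1 hz, map_zero σ, sub_zero] at h
  exact h

end Local

section Translate

variable {k : Type u} [Field k] [IsAlgClosed k] {A : Type v} [CommRing A] [HopfAlgebra k A]
  [Algebra.FiniteType k A]

/-- A Hopf algebra reduced at the identity is reduced. -/
theorem isReduced_of_isReduced_at_one
    (h : ∀ a : A, IsNilpotent a → ∃ u : A, Coalgebra.counit (R := k) u ≠ 0 ∧ u * a = 0) :
    _root_.IsReduced A := by
  refine ⟨fun a ha => ?_⟩
  by_contra hne
  have hann : LinearMap.ker (LinearMap.toSpanSingleton A A a) ≠ ⊤ := fun htop => hne (by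
    have h1 : (1 : A) ∈ LinearMap.ker (LinearMap.toSpanSingleton A A a) := htop ▸ Submodule.mem_top
    simpa using h1)
  obtain ⟨t, ht⟩ := exists_point_of_ne_top (k := k) (R := A) _ hann
  let e := transREquiv (toConv t)
  obtain ⟨u, hu, hua⟩ := h (e a) (ha.map e)
  have h1 : e.symm u * a = 0 := by
    apply e.injective
    rw [map_mul, e.apply_symm_apply, map_zero, hua]
  have h2 : t (e.symm u) = 0 := ht (by simpa using h1)
  apply hu
  rw [← e.apply_symm_apply u]
  show ((1 : WithConv (A →ₐ[k] k)).ofConv) (transR (toConv t) (e.symm u)) = 0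
  rw [apply_transR, one_mul]
  exact h2

/-- If the nilradical is inside the square of the augmentation ideal, the Hopf algebra is reduced. -/
theorem isReduced_of_nilradical_le_sq
    (h : nilradical A ≤ RingHom.ker (Bialgebra.counitAlgHom k A) ^ 2) : _root_.IsReduced A := by
  haveI : Nontrivial A := (Bialgebra.counitAlgHom k A).toRingHom.domain_nontrivial
  haveI : IsNoetherianRing A := Algebra.FiniteType.isNoetherianRing k A
  let Ab := A ⧸ nilradical A
  haveI : _root_.IsReduced Ab := (Ideal.isRadical_iff_quotient_reduced _).1 (Ideal.radical_isRadical _)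
  haveI : Algebra.FiniteType k Ab :=
    Algebra.FiniteType.of_surjective (Ideal.Quotient.mkₐ k _) (Ideal.Quotient.mkₐ_surjective k _)
  haveI : Nontrivial Ab := Ideal.Quotient.nontrivial_iff.2 fun htop => one_ne_zero (α := A) (by
    obtain ⟨n, hn⟩ := (mem_nilradical.1 (htop ▸ Submodule.mem_top : (1 : A) ∈ nilradical A))
    simpa using hn)
  haveI : Algebra.FinitePresentation k Ab := Algebra.FinitePresentation.of_finiteType.1 inferInstance
  haveI : IsNoetherianRing Ab := Algebra.FiniteType.isNoetherianRing k Ab
  -- a smooth rational point of the reduced group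
  obtain ⟨⟨p, hp⟩⟩ : Nonempty (minimalPrimes Ab) := Ideal.nonempty_minimalPrimes bot_ne_top
  haveI := hp.1.1
  have hsm : (⟨p, inferInstance⟩ : PrimeSpectrum Ab) ∈ Algebra.smoothLocus k Ab := by
    have hF : IsField (Localization.AtPrime p) := by
      haveI : Ring.KrullDimLE 0 (Localization.AtPrime p) := .of_isLocalization _ hp _
      exact Ring.KrullDimLE.isField_of_isReduced
    letI := hF.toField
    haveI : Algebra.EssFiniteType k (Localization.AtPrime p) :=
      haveI := Algebra.EssFiniteType.of_isLocalization (Localization.AtPrime p) p.primeCompl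
      Algebra.EssFiniteType.comp k Ab _
    exact (Algebra.FormallySmooth.of_perfectField : Algebra.FormallySmooth k (Localization.AtPrime p))
  haveI : IsJacobsonRing Ab := isJacobsonRing_of_finiteType (A := k)
  obtain ⟨m, hm, hmc⟩ := nonempty_inter_closedPoints ⟨_, hsm⟩
    (Algebra.isOpen_smoothLocus (R := k) (A := Ab)).isLocallyClosed
  haveI : m.asIdeal.IsMaximal := (PrimeSpectrum.isClosed_singleton_iff_isMaximal m).1 hmc
  obtain ⟨t, ht⟩ := exists_point_of_ne_top (k := k) (R := Ab) m.asIdeal Ideal.IsPrime.ne_top'
  -- move it to the identity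
  let tA : WithConv (A →ₐ[k] k) := toConv (t.comp (Ideal.Quotient.mkₐ k _))
  have hτ : ∀ γ : WithConv (A →ₐ[k] k), nilradical A ≤ Ideal.comap (transR γ : A →ₐ[k] A) (nilradical A) :=
    fun γ a ha => mem_nilradical.2 ((mem_nilradical.1 ha).map (transR γ))
  let e : Ab ≃ₐ[k] Ab := AlgEquiv.ofAlgHom (Ideal.quotientMapₐ _ (transR tA) (hτ _))
    (Ideal.quotientMapₐ _ (transR tA⁻¹) (hτ _))
    (AlgHom.ext fun z => by
      obtain ⟨a, rfl⟩ := Ideal.Quotient.mk_surjective z
      show Ideal.Quotient.mk _ (transR tA (transR tA⁻¹ a)) = _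
      rw [← AlgHom.comp_apply, transR_comp, mul_inv_cancel, transR_one]; rfl)
    (AlgHom.ext fun z => by
      obtain ⟨a, rfl⟩ := Ideal.Quotient.mk_surjective z
      show Ideal.Quotient.mk _ (transR tA⁻¹ (transR tA a)) = _
      rw [← AlgHom.comp_apply, transR_comp, inv_mul_cancel, transR_one]; rfl)
  let ε : Ab →ₐ[k] k := Ideal.Quotient.liftₐ _ (Bialgebra.counitAlgHom k A) fun a ha => by
    obtain ⟨n, hn⟩ := mem_nilradical.1 ha
    refine eq_zero_of_pow_eq_zero (n := n) ?_
    rw [← map_pow, hn, map_zero]
  let me : Ideal Ab := RingHom.ker ε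
  haveI : me.IsMaximal := RingHom.ker_isMaximal_of_surjective ε fun c => ⟨algebraMap k Ab c, ε.commutes c⟩
  have hem : m.asIdeal = me.comap e.toRingEquiv.toRingHom := by
    rw [(‹m.asIdeal.IsMaximal›).eq_of_le (RingHom.ker_ne_top t.toRingHom) ht]
    ext z
    obtain ⟨a, rfl⟩ := Ideal.Quotient.mk_surjective z
    show tA.ofConv a = 0 ↔ ((1 : WithConv (A →ₐ[k] k)).ofConv) (transR tA a) = 0
    rw [apply_transR, one_mul]
  let mA : Ideal A := RingHom.ker (Bialgebra.counitAlgHom k A)
  haveI : mA.IsMaximal := RingHom.ker_isMaximal_of_surjective _ fun c => ⟨algebraMap k A c, AlgHom.commutes _ c⟩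
  let L := Localization.AtPrime mA
  let B := Localization.AtPrime me
  haveI : Algebra.FormallySmooth k B := by
    haveI : Algebra.FormallySmooth k (Localization.AtPrime m.asIdeal) := hm
    refine Algebra.FormallySmooth.of_equiv
      (IsLocalization.algEquivOfAlgEquiv (Localization.AtPrime m.asIdeal) B e (?_ :
        Submonoid.map e.toAlgHom m.asIdeal.primeCompl = me.primeCompl))
    ext z
    constructor
    · rintro ⟨w, hw, rfl⟩
      exact fun hz => hw (show w ∈ m.asIdeal by rw [hem]; exact hz)
    · intro hz
      exact ⟨e.symm z, fun hw => hz (by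
        rw [hem] at hw
        have := (show e (e.symm z) ∈ me from hw)
        rwa [e.apply_symm_apply] at this), e.apply_symm_apply z⟩
  -- the reduction map has a section, hence is bijective
  haveI : IsNoetherianRing L := IsLocalization.isNoetherianRing mA.primeCompl _ inferInstance
  let πr : L →+* B := Localization.localRingHom mA me (Ideal.Quotient.mk (nilradical A))
    (by ext a; rfl)
  let π : L →ₐ[k] B :=
    { πr with
      commutes' := fun c => by
        show πr (algebraMap k L c) = _
        rw [IsScalarTower.algebraMap_apply k A L, Localization.localRingHom_to_map,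
          IsScalarTower.algebraMap_apply k Ab B]
        rfl }
  have hπs : Function.Surjective π := by
    intro z
    obtain ⟨a, s, rfl⟩ := IsLocalization.exists_mk'_eq me.primeCompl z
    obtain ⟨a, rfl⟩ := Ideal.Quotient.mk_surjective a
    obtain ⟨s', hs'⟩ := Ideal.Quotient.mk_surjective (s : Ab)
    have hs'm : s' ∈ mA.primeCompl := fun h => s.2 (show (s : Ab) ∈ me by rw [← hs']; exact h)
    refine ⟨IsLocalization.mk' L a (⟨s', hs'm⟩ : mA.primeCompl), ?_⟩
    show πr (IsLocalization.mk' L a (⟨s', hs'm⟩ : mA.primeCompl)) = _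
    rw [Localization.localRingHom_mk']
    congr 1
    exact Subtype.ext hs'
  have hker : RingHom.ker π ≤ nilradical L := by
    intro z hz
    obtain ⟨a, s, rfl⟩ := IsLocalization.exists_mk'_eq mA.primeCompl z
    have hz' : πr (IsLocalization.mk' L a s) = 0 := hz
    rw [Localization.localRingHom_mk', IsLocalization.mk'_eq_zero_iff] at hz'
    obtain ⟨⟨u, hu⟩, hu0⟩ := hz'
    obtain ⟨u', rfl⟩ := Ideal.Quotient.mk_surjective u
    rw [← map_mul, Ideal.Quotient.eq_zero_iff_mem, mem_nilradical] at hu0
    rw [mem_nilradical]
    have hu' : IsUnit (algebraMap A L u') :=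
      IsLocalization.map_units L (⟨u', fun h => hu h⟩ : mA.primeCompl)
    have e1 : IsLocalization.mk' L a s =
        (↑hu'.unit⁻¹ * IsLocalization.mk' L (1 : A) s) * algebraMap A L (u' * a) := by
      calc IsLocalization.mk' L a s = algebraMap A L a * IsLocalization.mk' L (1 : A) s := by
            rw [IsLocalization.mul_mk'_eq_mk'_of_mul, mul_one]
        _ = _ := by
            rw [map_mul]
            calc _ = (↑hu'.unit⁻¹ * algebraMap A L u') * (algebraMap A L a * IsLocalization.mk' L (1 : A) s) := by
                  rw [IsUnit.val_inv_mul, one_mul]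
              _ = _ := by ring
    rw [e1]
    exact (Commute.all _ _).isNilpotent_mul_left (hu0.map _)
  have hnil : IsNilpotent (RingHom.ker π) := by
    refine (Ideal.FG.isNilpotent_iff_le_nilradical (IsNoetherian.noetherian _)).2 hker
  obtain ⟨σ, hσ⟩ : ∃ σ : B →ₐ[k] L, π.comp σ = AlgHom.id k B :=
    ⟨Algebra.FormallySmooth.liftOfSurjective (AlgHom.id k B) π hπs hnil,
      Algebra.FormallySmooth.comp_liftOfSurjective _ _ _ _⟩
  replace hσ : ∀ b, π (σ b) = b := fun b => DFunLike.congr_fun hσ b
  -- the kernel is inside the square of the maximal ideal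
  let N : Ideal L := RingHom.ker π
  let M := IsLocalRing.maximalIdeal L
  have hNM2 : N ≤ M ^ 2 := by
    intro z hz
    have hz' := hker hz
    obtain ⟨a, s, rfl⟩ := IsLocalization.exists_mk'_eq mA.primeCompl z
    rw [mem_nilradical] at hz'
    obtain ⟨n, hn⟩ := hz'
    rw [← IsLocalization.mk'_pow, IsLocalization.mk'_eq_zero_iff] at hn
    obtain ⟨⟨u, hu⟩, hu0⟩ := hn
    have hua : u * a ∈ nilradical A := mem_nilradical.2 ⟨n + 1, by
      rw [pow_succ, mul_pow]
      calc u ^ n * a ^ n * (u * a) = (u * a ^ n) * (u ^ n * a) := by ring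
        _ = 0 := by rw [show u * a ^ n = 0 from hu0, zero_mul]⟩
    have h1 := Ideal.mem_map_of_mem (algebraMap A L) (h hua)
    rw [Ideal.map_pow, Localization.AtPrime.map_eq_maximalIdeal, map_mul,
      Ideal.unit_mul_mem_iff_mem _ (IsLocalization.map_units L (⟨u, hu⟩ : mA.primeCompl))] at h1
    rw [← mul_one a, ← IsLocalization.mul_mk'_eq_mk'_of_mul]
    exact Ideal.mul_mem_right _ _ h1
  have hN : N = ⊥ := ker_eq_bot_of_section π hπs σ hσ hNM2
  refine isReduced_of_isReduced_at_one (k := k) fun a ha => ?_
  have h1 : algebraMap A L a ∈ N := by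
    show πr (algebraMap A L a) = 0
    rw [Localization.localRingHom_to_map, Ideal.Quotient.eq_zero_iff_mem.2 (mem_nilradical.2 ha), map_zero]
  rw [hN, Ideal.mem_bot, IsLocalization.map_eq_zero_iff mA.primeCompl] at h1
  obtain ⟨⟨u, hu⟩, hu0⟩ := h1
  exact ⟨u, hu, hu0⟩

end Translate

section CharZero

variable {k : Type u} [Field k] [CharZero k] {A : Type v} [CommRing A] [HopfAlgebra k A]
  [Algebra.FiniteType k A]

theorem isDomain_atPrime_counit [IsAlgClosed k]
    [(RingHom.ker (Bialgebra.counitAlgHom k A)).IsPrime] :
    IsDomain (Localization.AtPrime (RingHom.ker (Bialgebra.counitAlgHom k A))) := by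
  let mA : Ideal A := RingHom.ker (Bialgebra.counitAlgHom k A)
  let L := Localization.AtPrime mA
  haveI : IsNoetherianRing A := Algebra.FiniteType.isNoetherianRing k A
  haveI : IsNoetherianRing L := IsLocalization.isNoetherianRing mA.primeCompl _ inferInstance
  have hu₀ : ∀ s : mA.primeCompl, IsUnit ((Bialgebra.counitAlgHom k A).toRingHom s) :=
    fun s => isUnit_iff_ne_zero.2 fun h => s.2 h
  let ε₀ : L →+* k := IsLocalization.lift (M := mA.primeCompl) hu₀
  let ε : L →ₐ[k] k :=
    { ε₀ with
      commutes' := fun c => by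
        show ε₀ (algebraMap k L c) = c
        rw [IsScalarTower.algebraMap_apply k A L, IsLocalization.lift_eq]
        exact (Bialgebra.counitAlgHom k A).commutes c }
  have hε : ∀ z, z ∈ IsLocalRing.maximalIdeal L ↔ ε z = 0 := by
    intro z
    obtain ⟨a, s, rfl⟩ := IsLocalization.exists_mk'_eq mA.primeCompl z
    rw [IsLocalization.AtPrime.mk'_mem_maximal_iff L mA]
    have h1 : ε (IsLocalization.mk' L a s) * Coalgebra.counit (R := k) (s : A) = Coalgebra.counit (R := k) a := by
      show ε₀ (IsLocalization.mk' L a s) * (Bialgebra.counitAlgHom k A).toRingHom s = _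
      rw [← IsLocalization.lift_eq (M := mA.primeCompl) (S := L) hu₀ (s : A), ← map_mul,
        IsLocalization.mk'_spec, IsLocalization.lift_eq]
      rfl
    show Coalgebra.counit (R := k) a = 0 ↔ _
    rw [← h1, mul_eq_zero]
    exact or_iff_left s.2
  refine Groth.Agent.Cartier.isDomain_of_derivations ε hε fun l hl1 hl2 => ?_
  -- the invariant derivation with tangent vector `l`
  let lA : A →ₗ[k] k := l ∘ₗ (IsScalarTower.toAlgHom k A L).toLinearMap
  have hlA : ∀ a b, lA (a * b) = Coalgebra.counit (R := k) a * lA b + Coalgebra.counit (R := k) b * lA a := by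
    intro a b
    have hεA : ∀ c : A, ε (algebraMap A L c) = Coalgebra.counit (R := k) c := fun c => by
      show ε₀ (algebraMap A L c) = _
      rw [IsLocalization.lift_eq]; rfl
    let x := algebraMap A L a
    let y := algebraMap A L b
    have hmem : (x - algebraMap k L (ε x)) * (y - algebraMap k L (ε y)) ∈ IsLocalRing.maximalIdeal L ^ 2 := by
      rw [pow_two]; exact Ideal.mul_mem_mul (by simp [hε]) (by simp [hε])
    have h := hl2 _ hmem
    have e : (x - algebraMap k L (ε x)) * (y - algebraMap k L (ε y)) =
        x * y - ε x • y - ε y • x + (ε x * ε y) • (1 : L) := by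
      simp only [Algebra.smul_def, map_mul]; ring
    rw [e] at h
    simp only [map_add, map_sub, map_smul, hl1, smul_zero, add_zero, sub_sub, sub_eq_zero] at h
    simp only [lA, LinearMap.comp_apply, AlgHom.toLinearMap_apply, IsScalarTower.coe_toAlgHom', map_mul]
    rw [h, hεA, hεA]
    rfl
  let DA : A →ₗ[k] A := slR lA ∘ₗ Coalgebra.comul (R := k)
  have hDA : ∀ a b, DA (a * b) = a * DA b + b * DA a := by
    intro a b
    simp only [DA, LinearMap.comp_apply, Bialgebra.comul_mul]
    have h : ∀ y z : A ⊗[k] A, slR lA (y * z) = slR (Coalgebra.counit (R := k)) y * slR lA z +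
        slR (Coalgebra.counit (R := k)) z * slR lA y := by
      intro y z
      induction y with
      | zero => simp
      | tmul p q =>
        induction z with
        | zero => simp
        | tmul p' q' =>
          simp only [Algebra.TensorProduct.tmul_mul_tmul, slR_tmul, hlA, smul_mul_smul_comm, add_smul]
          rw [mul_comm p' p]
        | add y z hy hz => simp only [map_add, mul_add, add_mul, hy, hz]; abel
      | add y w hy hw => simp only [map_add, mul_add, add_mul, hy, hw]; abel
    have hc : ∀ c : A, slR (Coalgebra.counit (R := k)) (Coalgebra.comul (R := k) c) = c := fun c => by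
      rw [show Coalgebra.comul (R := k) c = HopfRep.Comod.coact (k := k) (A := A) c from rfl, ← actL_apply, actL_counit]
    rw [h, hc, hc]
  -- extend it to the localisation
  let ψ₀ : A →+* TrivSqZeroExt L L :=
    { toFun := fun a => (algebraMap A L a, algebraMap A L (DA a))
      map_one' := TrivSqZeroExt.ext (map_one _) (by
        have h := hDA 1 1
        simp only [one_mul] at h
        show algebraMap A L (DA 1) = 0
        rw [left_eq_add.1 h, map_zero])
      map_mul' := fun a b => TrivSqZeroExt.ext (map_mul _ a b) (by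
        show algebraMap A L (DA (a * b)) = algebraMap A L a • algebraMap A L (DA b) +
          MulOpposite.op (algebraMap A L b) • algebraMap A L (DA a)
        rw [hDA, map_add, map_mul, map_mul, smul_eq_mul, op_smul_eq_mul, mul_comm (algebraMap A L b)])
      map_zero' := TrivSqZeroExt.ext (map_zero _) (by
        show algebraMap A L (DA 0) = 0
        rw [map_zero, map_zero])
      map_add' := fun a b => TrivSqZeroExt.ext (map_add _ a b) (by
        show algebraMap A L (DA (a + b)) = algebraMap A L (DA a) + algebraMap A L (DA b)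
        rw [map_add, map_add]) }
  have hu : ∀ s : mA.primeCompl, IsUnit (ψ₀ s) := fun s =>
    TrivSqZeroExt.isUnit_iff_isUnit_fst.2 (IsLocalization.map_units L s)
  let ψ : L →+* TrivSqZeroExt L L := IsLocalization.lift hu
  have hfst : ∀ z, (ψ z).fst = z := by
    intro z
    have h : (TrivSqZeroExt.fstHom L L L).toRingHom.comp ψ = RingHom.id L :=
      IsLocalization.ringHom_ext mA.primeCompl (RingHom.ext fun a => by
        show (ψ (algebraMap A L a)).fst = _
        rw [IsLocalization.lift_eq]; rfl)
    exact congr($h z)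
  let D : L →ₗ[k] L :=
    { toFun := fun z => (ψ z).snd
      map_add' := fun y z => by simp
      map_smul' := fun c z => by
        have hc : ψ (algebraMap k L c) = (algebraMap k L c, 0) := by
          rw [IsScalarTower.algebraMap_apply k A L, IsLocalization.lift_eq]
          refine TrivSqZeroExt.ext rfl ?_
          show algebraMap A L (DA (algebraMap k A c)) = 0
          rw [show algebraMap k A c = c • (1 : A) from Algebra.algebraMap_eq_smul_one c, map_smul]
          have h := hDA 1 1
          simp only [one_mul] at h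
          rw [left_eq_add.1 h, smul_zero, map_zero]
        rw [RingHom.id_apply, Algebra.smul_def, map_mul, hc, TrivSqZeroExt.snd_mul, hfst]
        show algebraMap k L c • (ψ z).snd + MulOpposite.op z • (0 : L) = _
        rw [smul_zero, add_zero, algebraMap_smul]
        }
  refine ⟨Derivation.mk' D fun y z => ?_, fun z => ?_⟩
  · show (ψ (y * z)).snd = y * (ψ z).snd + z * (ψ y).snd
    rw [map_mul, TrivSqZeroExt.snd_mul, hfst, hfst, smul_eq_mul, op_smul_eq_mul, mul_comm z]
  · -- at the origin it is the given tangent vector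
    have hA' : ∀ a, ε (D (algebraMap A L a)) = l (algebraMap A L a) := fun a => by
      show ε ((ψ (algebraMap A L a)).snd) = _
      rw [IsLocalization.lift_eq]
      show ε₀ (algebraMap A L (slR lA (Coalgebra.comul (R := k) a))) = lA a
      rw [IsLocalization.lift_eq]
      show Coalgebra.counit (R := k) (slR lA (Coalgebra.comul (R := k) a)) = lA a
      have h : ∀ w : A ⊗[k] A, Coalgebra.counit (R := k) (slR lA w) =
          lA (TensorProduct.lid k A ((Coalgebra.counit (R := k)).rTensor A w)) := by
        intro w
        induction w with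
        | zero => simp
        | tmul p q => simp [mul_comm]
        | add y z hy hz => simp only [map_add, hy, hz]
      rw [h, Coalgebra.rTensor_counit_comul]
      simp
    -- both are derivations at the origin
    obtain ⟨a, s, rfl⟩ := IsLocalization.exists_mk'_eq mA.primeCompl z
    have hsp : IsLocalization.mk' L a s * algebraMap A L (s : A) = algebraMap A L a := IsLocalization.mk'_spec _ _ _
    let z := IsLocalization.mk' L a s
    let w := algebraMap A L (s : A)
    have h1 : ε (D (z * w)) = ε z * ε (D w) + ε w * ε (D z) := by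
      show ε ((ψ (z * w)).snd) = _
      rw [map_mul ψ, TrivSqZeroExt.snd_mul, hfst, hfst, smul_eq_mul, op_smul_eq_mul, map_add, map_mul, map_mul,
        mul_comm (ε (ψ z).snd)]
      rfl
    have hmem : (z - algebraMap k L (ε z)) * (w - algebraMap k L (ε w)) ∈ IsLocalRing.maximalIdeal L ^ 2 := by
      rw [pow_two]; exact Ideal.mul_mem_mul (by simp [hε]) (by simp [hε])
    have h2 := hl2 _ hmem
    have e : (z - algebraMap k L (ε z)) * (w - algebraMap k L (ε w)) =
        z * w - ε z • w - ε w • z + (ε z * ε w) • (1 : L) := by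
      simp only [Algebra.smul_def, map_mul]; ring
    rw [e] at h2
    simp only [map_add, map_sub, map_smul, hl1, smul_zero, mul_zero, add_zero, sub_sub, sub_eq_zero, smul_eq_mul] at h2
    rw [show z * w = algebraMap A L a from hsp] at h1 h2
    rw [hA' a, h2, hA' (s : A)] at h1
    have hw : ε w ≠ 0 := by
      show ε₀ (algebraMap A L (s : A)) ≠ 0
      rw [IsLocalization.lift_eq]
      exact s.2
    exact (mul_left_cancel₀ hw (add_left_cancel h1)).symm

/-- Cartier's theorem: finitely generated Hopf algebras in characteristic zero are reduced. -/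
theorem isReduced_of_hopfAlgebra_charZero (k : Type u) [Field k] [CharZero k] (A : Type v) [CommRing A]
    [HopfAlgebra k A] [Algebra.FiniteType k A] : _root_.IsReduced A := by
  have key : ∀ (K : Type u) [Field K] [CharZero K] [IsAlgClosed K] (B : Type (max u v)) [CommRing B]
      [HopfAlgebra K B] [Algebra.FiniteType K B], _root_.IsReduced B := by
    intro K _ _ _ B _ _ _
    haveI : (RingHom.ker (Bialgebra.counitAlgHom K B)).IsPrime := RingHom.ker_isPrime _
    haveI := isDomain_atPrime_counit (k := K) (A := B)
    refine isReduced_of_isReduced_at_one (k := K) fun a ha => ?_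
    have h := (ha.map (algebraMap B (Localization.AtPrime (RingHom.ker (Bialgebra.counitAlgHom K B))))).eq_zero
    rw [IsLocalization.map_eq_zero_iff (RingHom.ker (Bialgebra.counitAlgHom K B)).primeCompl] at h
    obtain ⟨⟨u, hu⟩, hu0⟩ := h
    exact ⟨u, hu, hu0⟩
  let K := AlgebraicClosure k
  haveI : CharZero K := charZero_of_injective_algebraMap (RingHom.injective (algebraMap k K))
  haveI := key K (K ⊗[k] A)
  exact isReduced_of_injective (Algebra.TensorProduct.includeRight : A →ₐ[k] K ⊗[k] A)
    (Algebra.TensorProduct.includeRight_injective (RingHom.injective (algebraMap k K)))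

end CharZero

end Groth.Agent.LinRed
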