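import Groth.Agent.LinRed.Orbit
import Mathlib.RingTheory.Valuation.LocalSubring
import Mathlib.RingTheory.Bialgebra.GroupLike
import Mathlib.LinearAlgebra.Dual.Lemmas
import Groth.Agent.UnitsFG.Core
import Groth.Agent.LinRed.HopfReduced
import Mathlib.GroupTheory.Finiteness
import Mathlib.LinearAlgebra.Dimension.Finite

/-!
# Units on a connected affine algebraic group (Rosenlicht)

Every invertible function on a connected affine algebraic group over an algebraically closed field
is a scalar multiple of a character.
-/

set_option autoImplicit false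
universe u v w

open TensorProduct WithConv

namespace Groth.Agent.LinRed

open Groth.Agent.Comod

variable {k : Type u} [Field k] [IsAlgClosed k]

/-- Rational points separate functions on a reduced algebra of finite type. -/
theorem exists_point_apply_ne_zero {B : Type w} [CommRing B] [Algebra k B] [Algebra.FiniteType k B]
    [_root_.IsReduced B] {z : B} (hz : z ≠ 0) : ∃ g : B →ₐ[k] k, g z ≠ 0 := by
  by_contra! h
  haveI : IsJacobsonRing B := isJacobsonRing_of_finiteType (A := k)
  have hj : z ∈ (⊥ : Ideal B).jacobson := by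
    refine Ideal.mem_sInf.2 fun m hm => ?_
    obtain ⟨-, hmax⟩ := hm
    obtain ⟨t, ht⟩ := exists_point_of_ne_top (k := k) (R := B) m hmax.ne_top
    rw [hmax.eq_of_le (RingHom.ker_ne_top t.toRingHom) ht]
    exact h t
  have hrad : (⊥ : Ideal B).IsRadical := fun b ⟨n, hn⟩ =>
    Ideal.mem_bot.2 (IsReduced.eq_zero b ⟨n, Ideal.mem_bot.1 hn⟩)
  rw [IsJacobsonRing.out inferInstance hrad, Ideal.mem_bot] at hj
  exact hz hj

/-- If all values at rational points lie in a subspace, so do all contractions. -/
theorem slR_mem_of_forall_point {V : Type v} [AddCommGroup V] [Module k V] {A : Type w} [CommRing A]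
    [Algebra k A] [Algebra.FiniteType k A] [_root_.IsReduced A] {P : Submodule k V} {z : V ⊗[k] A}
    (h : ∀ g : A →ₐ[k] k, slR g.toLinearMap z ∈ P) (φ : A →ₗ[k] k) : slR φ z ∈ P := by
  by_contra hne
  obtain ⟨L, hL, hLP⟩ := Submodule.exists_dual_map_eq_bot_of_notMem hne inferInstance
  have e : ∀ (ψ : A →ₗ[k] k) (y : V ⊗[k] A), ψ (slL L y) = L (slR ψ y) := by
    intro ψ y
    induction y with
    | zero => simp
    | tmul p q => simp [mul_comm]
    | add y w hy hw => simp only [map_add, hy, hw]
  have h0 : slL L z = 0 := by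
    by_contra hz
    obtain ⟨g, hg⟩ := exists_point_apply_ne_zero (k := k) hz
    exact hg ((e g.toLinearMap z).trans ((Submodule.eq_bot_iff _).1 hLP _ (Submodule.mem_map_of_mem (h g))))
  exact hL (by rw [← e, h0, map_zero])

/-- A finite set of field elements has a dominant one. -/
theorem exists_forall_div_mem {K : Type v} [Field K] (O : ValuationSubring K) {S : Finset K}
    (h : ∃ s ∈ S, s ≠ 0) : ∃ t ∈ S, t ≠ 0 ∧ ∀ s ∈ S, s / t ∈ O := by
  classical
  induction S using Finset.induction_on with
  | empty => obtain ⟨s, hs, -⟩ := h; simp at hs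
  | insert a S _ ih =>
    by_cases hS : ∃ s ∈ S, s ≠ 0
    · obtain ⟨t, ht, ht0, hall⟩ := ih hS
      by_cases hat : a / t ∈ O
      · refine ⟨t, Finset.mem_insert_of_mem ht, ht0, fun s hs => ?_⟩
        rcases Finset.mem_insert.1 hs with rfl | hs
        exacts [hat, hall s hs]
      · have ha0 : a ≠ 0 := fun h0 => hat (by simp [h0])
        have hinv : t / a ∈ O := by
          have := (O.mem_or_inv_mem (a / t)).resolve_left hat
          rwa [inv_div] at this
        refine ⟨a, Finset.mem_insert_self a S, ha0, fun s hs => ?_⟩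
        rcases Finset.mem_insert.1 hs with rfl | hs
        · rw [div_self ha0]; exact O.one_mem
        · have e : s / a = (s / t) * (t / a) := by field_simp
          rw [e]; exact O.mul_mem _ _ (hall s hs) hinv
    · push Not at hS
      obtain ⟨s, hs, hs0⟩ := h
      rcases Finset.mem_insert.1 hs with rfl | hs
      · refine ⟨s, Finset.mem_insert_self s S, hs0, fun r hr => ?_⟩
        rcases Finset.mem_insert.1 hr with rfl | hr
        · rw [div_self hs0]; exact O.one_mem
        · rw [hS r hr, zero_div]; exact O.zero_mem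
      · exact absurd (hS s hs) hs0

section Connected

variable {A : Type v} [CommRing A] [IsDomain A] [HopfAlgebra k A] [Algebra.FiniteType k A]

/-- the translates of a unit form a single line -/
theorem exists_transR_eq_smul {u : A} (hu : IsUnit u) (g : WithConv (A →ₐ[k] k)) :
    ∃ c : k, transR g u = c • u := by
  classical
  let K := FractionRing A
  let ι := algebraMap A K
  have hι : Function.Injective ι := IsFractionRing.injective A K
  obtain ⟨v, huv⟩ := hu.exists_right_inv
  have hT : ∀ γ : WithConv (A →ₐ[k] k), transR γ u * transR γ v = 1 := fun γ => by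
    rw [← map_mul, huv, map_one]
  have hTu : ∀ γ, ι (transR γ u) ≠ 0 := fun γ h0 => by
    rw [map_eq_zero_iff _ hι] at h0
    have := hT γ
    rw [h0, zero_mul] at this
    exact zero_ne_one this
  let q : K := ι (transR g u) / ι u
  suffices hint : IsIntegral k q by
    obtain ⟨c, hc⟩ : q ∈ (⊥ : Subalgebra k K) := by
      rw [show (⊥ : Subalgebra k K) = integralClosure k K from ?_]
      · exact hint
      · symm
        rw [eq_bot_iff]
        intro y hy
        exact Algebra.mem_bot.2 (by
          exact minpoly.degree_eq_one_iff.1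
            (IsAlgClosed.degree_eq_one_of_irreducible k (minpoly.irreducible hy)))
    refine ⟨c, hι ?_⟩
    rw [Algebra.smul_def, map_mul, show ι (algebraMap k A c) = algebraMap k K c from
      (IsScalarTower.algebraMap_apply k A K c).symm]
    have hu0 : ι u ≠ 0 := (map_ne_zero_iff _ hι).2 hu.ne_zero
    have hc' : algebraMap k K c = ι (transR g u) / ι u := hc
    rw [hc', div_mul_cancel₀ _ hu0]
  have hO : ∀ O : ValuationSubring K, (∀ c : k, algebraMap k K c ∈ O) → q ∈ O := by
    intro O hk
    -- dominant translate
    have dom : ∀ w : A, IsUnit w → ∃ (t : K) (z : A), t ≠ 0 ∧ z ≠ 0 ∧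
        (∀ γ : WithConv (A →ₐ[k] k), ι (transR γ w) / t ∈ O) ∧
        ∀ γ : WithConv (A →ₐ[k] k), γ.ofConv z ≠ 0 → t / ι (transR γ w) ∈ O := by
      intro w hw
      let Δw := Coalgebra.comul (R := k) w
      obtain ⟨M, hM, hMmem⟩ := exists_fg_slR_mem Δw
      let N : Submodule k A := Submodule.span k (Set.range fun γ : WithConv (A →ₐ[k] k) => transR γ w)
      have hN : N ≤ M := Submodule.span_le.2 (by rintro _ ⟨γ, rfl⟩; show transR γ w ∈ M; rw [transR_apply]; exact hMmem _)
      haveI : Module.Finite k M := Module.Finite.iff_fg.2 hM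
      have hNfg : N.FG := Module.Finite.iff_fg.1
        (Module.Finite.of_injective (Submodule.inclusion hN) (Submodule.inclusion_injective _))
      obtain ⟨S, hS⟩ := hNfg
      have hwN : w ∈ N := Submodule.subset_span ⟨1, by simp [transR_one]⟩
      have hSne : ∃ s ∈ S.image ι, s ≠ 0 := by
        by_contra! h
        have : N ≤ ⊥ := by
          rw [← hS, Submodule.span_le]
          intro s hs
          exact (map_eq_zero_iff _ hι).1 (h _ (Finset.mem_image_of_mem ι hs))
        exact hw.ne_zero (this hwN)
      obtain ⟨t, ht, ht0, hall⟩ := exists_forall_div_mem O hSne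
      have hdiv : ∀ m ∈ N, ι m / t ∈ O := by
        intro m hm
        rw [← hS] at hm
        induction hm using Submodule.span_induction with
        | mem y hy => exact hall _ (Finset.mem_image_of_mem ι hy)
        | zero => simp
        | add a b _ _ ha hb => rw [map_add, add_div]; exact O.add_mem _ _ ha hb
        | smul c a _ ha =>
          rw [Algebra.smul_def, map_mul, mul_div_assoc,
            show ι (algebraMap k A c) = algebraMap k K c from (IsScalarTower.algebraMap_apply k A K c).symm]
          exact O.mul_mem _ _ (hk c) ha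
      -- elements of valuation bigger than that of `t`
      let P : Submodule k A :=
        { carrier := {m | ι m / t ∈ O ∧ (ι m = 0 ∨ t / ι m ∉ O)}
          add_mem' := by
            rintro a b ⟨ha, ha'⟩ ⟨hb, hb'⟩
            refine ⟨by rw [map_add, add_div]; exact O.add_mem _ _ ha hb, ?_⟩
            by_contra! hcon
            obtain ⟨h0, hO'⟩ := hcon
            have hsum : (ι a / t + ι b / t) * (t / ι (a + b)) = 1 := by
              rw [← add_div, ← map_add, div_mul_div_comm, mul_comm, div_self (mul_ne_zero ht0 h0)]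
            have hu1 : IsUnit ((⟨ι a / t, ha⟩ : O) + ⟨ι b / t, hb⟩) :=
              .of_mul_eq_one ⟨t / ι (a + b), hO'⟩ (Subtype.ext hsum)
            have hnu : ∀ (m : A) (hm : ι m / t ∈ O), (ι m = 0 ∨ t / ι m ∉ O) → ¬ IsUnit (⟨ι m / t, hm⟩ : O) := by
              rintro m hm hor hum
              obtain ⟨y, hy⟩ := hum.exists_right_inv
              have hy' : ι m / t * (y : K) = 1 := congrArg Subtype.val hy
              rcases hor with h | h
              · simp [h] at hy'
              · refine h ?_
                have : t / ι m = (y : K) := by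
                  rw [eq_comm]; exact (eq_inv_of_mul_eq_one_right hy').trans (inv_div _ _)
                rw [this]; exact y.2
            rcases IsLocalRing.isUnit_or_isUnit_of_isUnit_add hu1 with h | h
            · exact hnu a ha ha' h
            · exact hnu b hb hb' h
          zero_mem' := ⟨by simp, Or.inl (map_zero ι)⟩
          smul_mem' := by
            rintro c a ⟨ha, ha'⟩
            by_cases hc : c = 0
            · subst hc; rw [zero_smul]; exact ⟨by simp, Or.inl (map_zero ι)⟩
            have e : ι (c • a) = algebraMap k K c * ι a := by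
              rw [Algebra.smul_def, map_mul, ← IsScalarTower.algebraMap_apply k A K c]
            refine ⟨by rw [e, mul_div_assoc]; exact O.mul_mem _ _ (hk c) ha, ?_⟩
            rcases ha' with h | h
            · exact Or.inl (by rw [e, h, mul_zero])
            · refine Or.inr fun hcon => h ?_
              have hc' : algebraMap k K c ≠ 0 := by simpa using hc
              have : t / ι a = algebraMap k K c * (t / ι (c • a)) := by
                rw [e, mul_div_assoc', mul_div_mul_left _ _ hc']
              rw [this]; exact O.mul_mem _ _ (hk c) hcon }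
      obtain ⟨s, hs, hst⟩ := Finset.mem_image.1 ht
      have hsP : s ∉ P := fun h => h.2.elim (fun h0 => ht0 (hst ▸ h0))
        (fun h1 => h1 (by rw [hst, div_self ht0]; exact O.one_mem))
      obtain ⟨L, hL, hLP⟩ := Submodule.exists_dual_map_eq_bot_of_notMem hsP inferInstance
      have e : ∀ γ : WithConv (A →ₐ[k] k), γ.ofConv (slL L Δw) = L (transR γ w) := by
        intro γ
        rw [transR_apply]
        show γ.ofConv.toLinearMap (slL L (Coalgebra.comul (R := k) w)) = _
        generalize Coalgebra.comul (R := k) w = y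
        induction y with
        | zero => simp
        | tmul p q => simp [mul_comm]
        | add y w hy hw => simp only [map_add, hy, hw]
      refine ⟨t, slL L Δw, ht0, fun hz => ?_, fun γ => hdiv _ (Submodule.subset_span ⟨γ, rfl⟩), fun γ hγ => ?_⟩
      · refine hL ?_
        have : N ≤ LinearMap.ker L := Submodule.span_le.2 (by
          rintro _ ⟨γ, rfl⟩
          show L (transR γ w) = 0
          rw [← e, hz, map_zero])
        exact this (hS ▸ Submodule.subset_span hs)
      · by_contra hnot
        refine hγ ?_
        rw [e]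
        exact (Submodule.eq_bot_iff _).1 hLP _ (Submodule.mem_map_of_mem
          ⟨hdiv _ (Submodule.subset_span ⟨γ, rfl⟩), Or.inr hnot⟩)
    obtain ⟨t, z, ht0, hz, hup, hlow⟩ := dom u hu
    obtain ⟨t', z', ht0', hz', hup', hlow'⟩ := dom v (.of_mul_eq_one u (by rw [mul_comm, huv]))
    obtain ⟨p, hp⟩ := exists_point_apply_ne_zero (k := k) (mul_ne_zero hz hz')
    rw [map_mul, mul_ne_zero_iff] at hp
    have hTι : ∀ γ, ι (transR γ u) * ι (transR γ v) = 1 := fun γ => by rw [← map_mul, hT, map_one]
    have htt : t * t' ∈ O := by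
      have h1 := O.mul_mem _ _ (hlow (toConv p) hp.1) (hlow' (toConv p) hp.2)
      rwa [div_mul_div_comm, hTι, div_one] at h1
    -- `t / ι u` lies in `O`
    have hu0 : ι u ≠ 0 := (map_ne_zero_iff _ hι).2 hu.ne_zero
    have h1 : t / ι u ∈ O := by
      have h2 := O.mul_mem _ _ (hup' 1) htt
      have hv : ι (transR (1 : WithConv (A →ₐ[k] k)) v) = (ι u)⁻¹ := by
        refine eq_inv_of_mul_eq_one_right ?_
        rw [transR_one, AlgHom.id_apply, ← map_mul, huv, map_one]
      have e : t / ι u = ι (transR (1 : WithConv (A →ₐ[k] k)) v) / t' * (t * t') := by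
        rw [hv, div_mul_eq_mul_div, ← mul_assoc, mul_div_assoc, div_self ht0', mul_one, inv_mul_eq_div]
      rw [e]; exact h2
    have e : q = ι (transR g u) / t * (t / ι u) := by
      exact (div_mul_div_cancel₀ ht0).symm
    rw [e]; exact O.mul_mem _ _ (hup g) h1
  have hmem : q ∈ (⨅ V : {V : ValuationSubring K // Set.range (algebraMap k K) ⊆ V.toSubring}, V.1.toSubring) :=
    Subring.mem_iInf.2 fun V => hO V.1 fun c => V.2 ⟨c, rfl⟩
  rw [iInf_valuationSubring_superset] at hmem
  rw [← RingHom.coe_range, Subring.closure_eq] at hmem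
  obtain ⟨p, hp, hp0⟩ := hmem
  have hl : p.map (algebraMap (algebraMap k K).range K) ∈ Polynomial.lifts (algebraMap k K) := by
    rw [Polynomial.lifts_iff_coeff_lifts]
    intro n
    rw [Polynomial.coeff_map]
    exact (p.coeff n).2
  obtain ⟨P, hP, -, hPm⟩ := Polynomial.lifts_and_degree_eq_and_monic hl (hp.map _)
  exact ⟨P, hPm, by rw [← Polynomial.eval_map, hP, Polynomial.eval_map]; exact hp0⟩

/-- Rosenlicht: a unit of a connected group is a multiple of a character. -/
theorem exists_groupLike_smul_eq {u : A} (hu : IsUnit u) :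
    ∃ χ : A, IsGroupLikeElem k χ ∧ u = Coalgebra.counit (R := k) u • χ := by
  classical
  have hmem : ∀ φ : A →ₗ[k] k, slR φ (Coalgebra.comul (R := k) u) ∈ Submodule.span k {u} :=
    slR_mem_of_forall_point fun g => by
      obtain ⟨c, hc⟩ := exists_transR_eq_smul hu (toConv g)
      rw [transR_apply] at hc
      exact Submodule.mem_span_singleton.2 ⟨c, hc.symm⟩
  obtain ⟨w, hw⟩ := mem_range_rTensor_of_slR_mem hmem
  obtain ⟨a, ha⟩ : ∃ a : A, Coalgebra.comul (R := k) u = u ⊗ₜ[k] a := by
    rw [← hw]
    clear hw
    induction w with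
    | zero => exact ⟨0, by simp⟩
    | tmul p q =>
      obtain ⟨c, hc⟩ := Submodule.mem_span_singleton.1 p.2
      exact ⟨c • q, by rw [LinearMap.rTensor_tmul, tmul_smul, smul_tmul', hc]; rfl⟩
    | add y z hy hz =>
      obtain ⟨a, ha⟩ := hy
      obtain ⟨b, hb⟩ := hz
      exact ⟨a + b, by rw [map_add, ha, hb, tmul_add]⟩
  have h1 : u = Coalgebra.counit (R := k) u • a := by
    have h := congrArg (fun z => TensorProduct.lid k A z)
      (Coalgebra.rTensor_counit_comul (R := k) u)
    simp only [ha, LinearMap.rTensor_tmul, TensorProduct.lid_tmul, one_smul] at h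
    exact h.symm
  have hε : IsUnit (Coalgebra.counit (R := k) u) := hu.map (Bialgebra.counitAlgHom k A)
  have hεa : Coalgebra.counit (R := k) a = 1 := by
    have h := congrArg (Coalgebra.counit (R := k)) h1
    rw [map_smul, smul_eq_mul] at h
    exact hε.mul_left_cancel ((mul_one _).trans h).symm
  refine ⟨a, ⟨hεa, ?_⟩, h1⟩
  have h2 : Coalgebra.counit (R := k) u • Coalgebra.comul (R := k) a =
      Coalgebra.counit (R := k) u • (a ⊗ₜ[k] a) := by
    rw [← map_smul, ← h1, ha, smul_tmul', ← h1]
  exact hε.smul_left_cancel.1 h2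

end Connected

section Characters

/-- The character group of an affine algebraic group is finitely generated. -/
theorem exists_finset_characters [CharZero k] (A : Type u) [CommRing A] [HopfAlgebra k A]
    [Algebra.FiniteType k A] :
    ∃ s : Finset Aˣ, (∀ x ∈ s, IsGroupLikeElem k (x : A)) ∧
      ∀ x : Aˣ, IsGroupLikeElem k (x : A) → x ∈ Subgroup.closure (s : Set Aˣ) := by
  classical
  haveI := isReduced_of_hopfAlgebra_charZero k A
  haveI : IsNoetherianRing A := Algebra.FiniteType.isNoetherianRing k A
  let X : Subgroup Aˣ :=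
    { carrier := {x | IsGroupLikeElem k (x : A)}
      mul_mem' := fun {a b} ha hb => by
        show IsGroupLikeElem k ((a * b : Aˣ) : A)
        rw [Units.val_mul]; exact IsGroupLikeElem.mul ha hb
      one_mem' := by show IsGroupLikeElem k ((1 : Aˣ) : A); rw [Units.val_one]; exact IsGroupLikeElem.one
      inv_mem' := fun {a} ha => by
        show IsGroupLikeElem k ((a⁻¹ : Aˣ) : A)
        have e : ((a⁻¹ : Aˣ) : A) = HopfAlgebraStruct.antipode k (a : A) :=
          (Units.eq_inv_of_mul_eq_one_right (IsGroupLikeElem.antipode_mul_cancel ha)).symm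
        rw [e]; exact ha.antipode }
  let P := {p : Ideal A // p ∈ minimalPrimes A}
  haveI : Finite P := (minimalPrimes.finite_of_isNoetherianRing A).to_subtype
  haveI : ∀ p : P, p.1.IsPrime := fun p => p.2.1.1
  haveI : ∀ p : P, Algebra.FiniteType k (A ⧸ p.1) := fun p =>
    Algebra.FiniteType.of_surjective (Ideal.Quotient.mkₐ k p.1) (Ideal.Quotient.mkₐ_surjective k p.1)
  choose n Φ hΦ using fun p : P => UnitsFG.exists_hom_isAlgebraic k (A ⧸ p.1)
  let Ψ : X →* ∀ p : P, Multiplicative (Fin (n p) → ℤ) :=
    Pi.monoidHom fun p => ((Φ p).comp (Units.map (Ideal.Quotient.mk p.1 : A →* A ⧸ p.1))).comp X.subtype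
  let Ψ' : Additive X →ₗ[ℤ] (∀ p : P, Fin (n p) → ℤ) :=
    AddMonoidHom.toIntLinearMap
      { toFun := fun x p => Multiplicative.toAdd (Ψ (Additive.toMul x) p)
        map_zero' := by funext p; simp
        map_add' := fun x y => by funext p; simp }
  -- the kernel is finite
  let F : A →ₗ[k] ∀ p : P, A ⧸ p.1 := LinearMap.pi fun p => (Ideal.Quotient.mkₐ k p.1).toLinearMap
  have hF : Function.Injective F := by
    rw [injective_iff_map_eq_zero]
    intro a ha
    have : a ∈ sInf (minimalPrimes A) := Ideal.mem_sInf.2 fun {p} hp =>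
      Ideal.Quotient.eq_zero_iff_mem.1 (congrFun ha ⟨p, hp⟩)
    rw [minimalPrimes, Ideal.sInf_minimalPrimes, ← Ideal.zero_eq_bot, ← nilradical, nilradical_eq_zero] at this
    exact this
  let G : (P → k) →ₗ[k] ∀ p : P, A ⧸ p.1 :=
    LinearMap.pi fun p => (Algebra.linearMap k (A ⧸ p.1)).comp (LinearMap.proj p)
  haveI : Module.Finite k (P → k) := inferInstance
  let V : Submodule k A := (LinearMap.range G).comap F
  haveI : Module.Finite k V :=
    Module.Finite.of_injective (LinearMap.codRestrict (LinearMap.range G) (F ∘ₗ V.subtype) fun v => v.2)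
      fun a b h => Subtype.ext (hF (congrArg Subtype.val h))
  have hfin : {a : A | IsGroupLikeElem k a ∧ a ∈ V}.Finite := by
    have h1 : LinearIndepOn k id {a : A | IsGroupLikeElem k a ∧ a ∈ V} :=
      linearIndepOn_isGroupLikeElem.mono fun a ha => ha.1
    have h2 : LinearIndependent k fun a : {a : A | IsGroupLikeElem k a ∧ a ∈ V} => (⟨a.1, a.2.2⟩ : V) :=
      LinearIndependent.of_comp V.subtype h1
    exact Set.finite_coe_iff.1 h2.finite
  have hkerV : ∀ x : X, Ψ x = 1 → ((x : Aˣ) : A) ∈ V := by
    intro x hx
    have hint : ∀ p : P, ∃ c : k, algebraMap k (A ⧸ p.1) c = Ideal.Quotient.mk p.1 ((x : Aˣ) : A) := fun p =>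
      minpoly.degree_eq_one_iff.1 (IsAlgClosed.degree_eq_one_of_irreducible k
        (minpoly.irreducible (hΦ p _ (congrFun hx p))))
    choose c hc using hint
    exact ⟨c, funext hc⟩
  have hker : (LinearMap.ker Ψ').FG := by
    have hf : (LinearMap.ker Ψ' : Set (Additive X)).Finite := by
      refine (hfin.preimage (f := fun x : Additive X => ((Additive.toMul x : X) : Aˣ).val) ?_).subset fun x hx => ?_
      · intro a _ b _ h
        exact Subtype.ext (Units.ext h)
      · refine ⟨(Additive.toMul x).2, hkerV _ (funext fun p => ?_)⟩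
        exact congrFun hx p
    exact ⟨hf.toFinset, by rw [Set.Finite.coe_toFinset, Submodule.span_eq]⟩
  have htop : (⊤ : Submodule ℤ (Additive X)).FG :=
    Submodule.fg_of_fg_map_of_fg_inf_ker Ψ' (IsNoetherian.noetherian _) (by simpa using hker)
  haveI : Module.Finite ℤ (Additive X) := ⟨htop⟩
  haveI : Group.FG X := GroupFG.iff_add_fg.2 (Module.Finite.iff_addGroup_fg.1 inferInstance)
  obtain ⟨s, hs⟩ := (Group.fg_iff_subgroup_fg X).1 inferInstance
  exact ⟨s, fun x hx => show x ∈ X from hs ▸ Subgroup.subset_closure hx,
    fun x hx => hs.symm ▸ (show x ∈ X from hx)⟩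

end Characters

end Groth.Agent.LinRed
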