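import Groth.Agent.LinRed.Separation
import Groth.Agent.FinHopf.Power
import Groth.Agent.GenFree.Algebra
import Mathlib.RingTheory.RingHom.Flat
import Mathlib.RingTheory.Jacobson.Ring
import Mathlib.RingTheory.Bialgebra.GroupLike

/-!
# Closed orbits are homogeneous spaces

For a closed orbit, `A` is faithfully flat over the image of the orbit morphism, which is the
coordinate ring of the orbit.
-/

set_option autoImplicit false
universe u v w

open TensorProduct WithConv

namespace Groth.Agent.LinRed

open Groth.Agent.Comod

section Translation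

variable {k : Type u} [Field k] {A : Type v} [CommRing A] [HopfAlgebra k A]

/-- right translation by a rational point -/
noncomputable def transR (γ : WithConv (A →ₐ[k] k)) : A →ₐ[k] A :=
  (toConv (AlgHom.id k A) * FinHopf.postComp (Algebra.ofId k A) γ).ofConv

theorem transR_comp (γ δ : WithConv (A →ₐ[k] k)) :
    (transR γ).comp (transR δ) = transR (γ * δ) := by
  have h := (FinHopf.postComp (C := A) (transR γ)).map_mul (toConv (AlgHom.id k A))
    (FinHopf.postComp (Algebra.ofId k A) δ)
  have h1 : FinHopf.postComp (C := A) (transR γ) (FinHopf.postComp (Algebra.ofId k A) δ) =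
      FinHopf.postComp (Algebra.ofId k A) δ := by
    apply WithConv.ofConv_injective
    ext c
    exact (transR γ).commutes _
  have h2 : FinHopf.postComp (C := A) (transR γ) (toConv (AlgHom.id k A)) =
      toConv (AlgHom.id k A) * FinHopf.postComp (Algebra.ofId k A) γ := by
    apply WithConv.ofConv_injective
    ext c
    rfl
  rw [h1, h2, mul_assoc, ← map_mul] at h
  exact congrArg WithConv.ofConv h

theorem transR_one : transR (1 : WithConv (A →ₐ[k] k)) = AlgHom.id k A := by
  rw [transR, map_one, mul_one]

/-- right translation as an automorphism -/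
noncomputable def transREquiv (γ : WithConv (A →ₐ[k] k)) : A ≃ₐ[k] A :=
  AlgEquiv.ofAlgHom (transR γ) (transR γ⁻¹)
    (by rw [transR_comp, mul_inv_cancel, transR_one])
    (by rw [transR_comp, inv_mul_cancel, transR_one])

theorem apply_transR (h γ : WithConv (A →ₐ[k] k)) (a : A) :
    h.ofConv (transR γ a) = (h * γ).ofConv a := by
  have e := (FinHopf.postComp (C := A) h.ofConv).map_mul (toConv (AlgHom.id k A))
    (FinHopf.postComp (Algebra.ofId k A) γ)
  have h1 : FinHopf.postComp (C := A) h.ofConv (FinHopf.postComp (Algebra.ofId k A) γ) = γ := by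
    apply WithConv.ofConv_injective
    ext c
    exact h.ofConv.commutes _
  have h2 : FinHopf.postComp (C := A) h.ofConv (toConv (AlgHom.id k A)) = h := by
    apply WithConv.ofConv_injective
    ext c
    rfl
  rw [h1, h2] at e
  exact DFunLike.congr_fun (congrArg WithConv.ofConv e) a

theorem transR_apply (γ : WithConv (A →ₐ[k] k)) (a : A) :
    transR γ a = slR γ.ofConv.toLinearMap (Coalgebra.comul (R := k) a) := by
  rw [transR, AlgHom.convMul_apply]
  generalize Coalgebra.comul (R := k) a = z
  induction z with
  | zero => simp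
  | tmul p q => simp [Algebra.smul_def, mul_comm]
  | add y z hy hz => simp only [map_add, hy, hz]

end Translation

section Flat

variable {k : Type u} [Field k] [IsAlgClosed k] {A : Type u} [CommRing A] [HopfAlgebra k A]
  [Algebra.FiniteType k A] [_root_.IsReduced A]
variable {R : Type w} [CommRing R] [Algebra k R] [Algebra.FiniteType k R] [HopfRep.Comod k A R]
  [GLin.IsCoactAlg k A R]

/-- For a closed orbit, `A` is faithfully flat over the coordinate ring of the orbit. -/
theorem faithfullyFlat_range_orbitHom (x : R →ₐ[k] k) (hcl : GLin.IsClosedOrbit k A x) :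
    Module.FaithfullyFlat (GLin.orbitHom k A x).range A := by
  classical
  let B := (GLin.orbitHom k A x).range
  haveI : Nontrivial A := (Bialgebra.counitAlgHom k A).toRingHom.domain_nontrivial
  haveI : IsReduced B := isReduced_of_injective B.val Subtype.val_injective
  haveI : Algebra.FiniteType B A := Algebra.FiniteType.of_restrictScalars_finiteType k B A
  obtain ⟨f, -, hf0, -, hfree, -, -⟩ :=
    Groth.Agent.GenFree.exists_generic_freeness (R := B) A A (g := (1 : B)) one_ne_zero
  -- flatness over the open set of `f`
  haveI hflat : Module.Flat B (LocalizedModule.Away f A) :=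
    haveI : Module.Free (Localization.Away f) (LocalizedModule.Away f A) := hfree
    haveI : Module.Flat B (Localization.Away f) := IsLocalization.flat _ (Submonoid.powers f)
    haveI : Module.Flat (Localization.Away f) (LocalizedModule.Away f A) := Module.Flat.of_free
    Module.Flat.trans B (Localization.Away f) _
  haveI : IsLocalizedModule (Submonoid.powers f)
      (IsScalarTower.toAlgHom B A (Localization.Away (algebraMap B A f))).toLinearMap := by
    rw [isLocalizedModule_iff_isLocalization, Algebra.algebraMapSubmonoid_powers]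
    infer_instance
  haveI : Module.Flat B (Localization.Away (algebraMap B A f)) :=
    Module.Flat.of_linearEquiv (IsLocalizedModule.iso (Submonoid.powers f)
      (IsScalarTower.toAlgHom B A (Localization.Away (algebraMap B A f))).toLinearMap).symm
  -- translations
  have hstab : ∀ (γ : WithConv (A →ₐ[k] k)) (b : B), transR γ (b : A) ∈ B := by
    rintro γ ⟨_, r, rfl⟩
    exact ⟨actL γ.ofConv.toLinearMap r, by
      show GLin.orbitHom k A x _ = transR γ (GLin.orbitHom k A x r)
      rw [orbitHom_actL, transR_apply]⟩
  let σ : WithConv (A →ₐ[k] k) → B →+* B := fun γ =>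
    ((transR γ : A →ₐ[k] A).comp B.val).toRingHom.codRestrict B fun b => hstab γ b
  have hσ : ∀ γ (b : B), ((σ γ b : B) : A) = transR γ (b : A) := fun _ _ => rfl
  let T : Set A := Set.range fun γ : WithConv (A →ₐ[k] k) => transR γ (f : A)
  have hspan : Ideal.span T = ⊤ := by
    by_contra hne
    obtain ⟨m, hmax, hle⟩ : ∃ m : Ideal B, m.IsMaximal ∧ ∀ γ, σ γ f ∈ m := by
      have h1 : Ideal.span (Set.range fun γ => σ γ f) ≠ ⊤ := by
        intro h
        apply hne
        have h2 := congrArg (Ideal.map (algebraMap B A)) h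
        rw [Ideal.map_top, Ideal.map_span, ← Set.range_comp] at h2
        rw [← h2]
        rfl
      obtain ⟨m, hm, hle⟩ := Ideal.exists_le_maximal _ h1
      exact ⟨m, hm, fun γ => hle (Ideal.subset_span ⟨γ, rfl⟩)⟩
    -- the point lies on the orbit
    let q : R →+* B := (GLin.orbitHom k A x).rangeRestrict.toRingHom
    have hqs : Function.Surjective q := (GLin.orbitHom k A x).rangeRestrict_surjective
    have hmem : (⟨Ideal.comap q m, inferInstance⟩ : PrimeSpectrum R) ∈
        closure (Set.range (PrimeSpectrum.comap (GLin.orbitHom k A x).toRingHom)) := by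
      rw [PrimeSpectrum.closure_range_comap, PrimeSpectrum.mem_zeroLocus]
      intro r hr
      show q r ∈ m
      rw [show q r = 0 from Subtype.ext hr]
      exact m.zero_mem
    rw [hcl.closure_eq] at hmem
    obtain ⟨Q, hQ⟩ := hmem
    have hQm : Ideal.comap (algebraMap B A) Q.asIdeal = m := by
      have h3 := congrArg PrimeSpectrum.asIdeal hQ
      refine (hmax.eq_of_le (Ideal.IsPrime.comap _).ne_top fun b hb => ?_).symm
      obtain ⟨r, rfl⟩ := hqs b
      have h4 : r ∈ Ideal.comap q m := hb
      rw [← show (PrimeSpectrum.comap (GLin.orbitHom k A x).toRingHom Q).asIdeal = Ideal.comap q m from h3] at h4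
      exact h4
    obtain ⟨z, hz⟩ := exists_point_of_ne_top (k := k) (R := A) Q.asIdeal Q.isPrime.ne_top
    have hz' : ∀ γ, z (transR γ (f : A)) = 0 := fun γ => hz (by
      have h5 := hle γ
      rw [← hQm] at h5
      exact h5)
    -- hence every point kills `f`
    have hall : ∀ t : A →ₐ[k] k, t (f : A) = 0 := fun t => by
      have h6 := hz' ((toConv z)⁻¹ * toConv t)
      rw [show z (transR ((toConv z)⁻¹ * toConv t) (f : A)) =
        (toConv z * ((toConv z)⁻¹ * toConv t)).ofConv (f : A) from apply_transR (toConv z) _ _] at h6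
      rwa [mul_inv_cancel_left] at h6
    apply hf0
    apply Subtype.ext
    show (f : A) = 0
    haveI : IsJacobsonRing A := isJacobsonRing_of_finiteType (A := k)
    have hj : (f : A) ∈ (⊥ : Ideal A).jacobson := by
      refine Ideal.mem_sInf.2 fun M hM => ?_
      obtain ⟨_, hMmax⟩ := hM
      obtain ⟨t, ht⟩ := exists_point_of_ne_top (k := k) (R := A) M hMmax.ne_top
      rw [hMmax.eq_of_le (RingHom.ker_ne_top t.toRingHom) ht]
      exact hall t
    have hrad : (⊥ : Ideal A).IsRadical := fun a ⟨n, hn⟩ =>
      (Ideal.mem_bot).2 (IsReduced.eq_zero a ⟨n, (Ideal.mem_bot).1 hn⟩)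
    rw [IsJacobsonRing.out inferInstance hrad] at hj
    exact (Ideal.mem_bot).1 hj
  have hflatA : Module.Flat B A := by
    rw [← RingHom.flat_algebraMap_iff]
    refine RingHom.Flat.ofLocalizationSpanTarget (algebraMap B A) T hspan fun t => ?_
    obtain ⟨_, γ, rfl⟩ := t
    let c : A := algebraMap B A f
    let e : A ≃+* A := (transREquiv γ).toRingEquiv
    have hmap : (Submonoid.powers c).map e.toMonoidHom = Submonoid.powers (transR γ (f : A)) :=
      Submonoid.map_powers _ _
    let e' : Localization.Away c ≃+* Localization.Away (transR γ (f : A)) :=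
      IsLocalization.ringEquivOfRingEquiv (Localization.Away c) (Localization.Away (transR γ (f : A))) e hmap
    let s : B ≃+* B := RingEquiv.ofRingHom (σ γ) (σ γ⁻¹)
      (RingHom.ext fun b => Subtype.ext (by
        show transR γ (transR γ⁻¹ (b : A)) = (b : A)
        rw [← AlgHom.comp_apply, transR_comp, mul_inv_cancel, transR_one]; rfl))
      (RingHom.ext fun b => Subtype.ext (by
        show transR γ⁻¹ (transR γ (b : A)) = (b : A)
        rw [← AlgHom.comp_apply, transR_comp, inv_mul_cancel, transR_one]; rfl))
    have heq : (algebraMap A (Localization.Away (transR γ (f : A)))).comp (algebraMap B A) =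
        e'.toRingHom.comp ((algebraMap B (Localization.Away c)).comp s.symm.toRingHom) := by
      ext b
      show algebraMap A _ (b : A) = e' (algebraMap B (Localization.Away c) (s.symm b))
      rw [IsScalarTower.algebraMap_apply B A (Localization.Away c), IsLocalization.ringEquivOfRingEquiv_eq]
      congr 1
      exact (congrArg Subtype.val (s.apply_symm_apply b)).symm
    show RingHom.Flat _
    rw [heq]
    exact ((RingHom.Flat.of_bijective s.symm.bijective).comp
      (RingHom.flat_algebraMap_iff.2 inferInstance)).comp (RingHom.Flat.of_bijective e'.bijective)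
  haveI := hflatA
  -- surjectivity
  refine Module.FaithfullyFlat.of_comap_surjective fun m => ?_
  let q : R →+* B := (GLin.orbitHom k A x).rangeRestrict.toRingHom
  have hqs : Function.Surjective q := (GLin.orbitHom k A x).rangeRestrict_surjective
  have hmem : (⟨Ideal.comap q m.asIdeal, inferInstance⟩ : PrimeSpectrum R) ∈
      closure (Set.range (PrimeSpectrum.comap (GLin.orbitHom k A x).toRingHom)) := by
    rw [PrimeSpectrum.closure_range_comap, PrimeSpectrum.mem_zeroLocus]
    intro r hr
    show q r ∈ m.asIdeal
    rw [show q r = 0 from Subtype.ext hr]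
    exact m.asIdeal.zero_mem
  rw [hcl.closure_eq] at hmem
  obtain ⟨Q, hQ⟩ := hmem
  refine ⟨Q, PrimeSpectrum.ext ?_⟩
  refine Ideal.comap_injective_of_surjective q hqs ?_
  exact congrArg PrimeSpectrum.asIdeal hQ

end Flat

section Character

variable {k : Type u} [Field k] {A : Type u} [CommRing A] [HopfAlgebra k A]
variable {R : Type w} [CommRing R] [Algebra k R] [HopfRep.Comod k A R] [GLin.IsCoactAlg k A R]

/-- A character trivial on the stabiliser is a function on the orbit. -/
theorem groupLike_mem_range_orbitHom (x : R →ₐ[k] k) [Module.FaithfullyFlat (GLin.orbitHom k A x).range A]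
    {χ : A} (hχ : IsGroupLikeElem k χ) (hJ : χ - 1 ∈ GLin.stabIdeal k A x) :
    χ ∈ (GLin.orbitHom k A x).range := by
  let B := (GLin.orbitHom k A x).range
  let i₁ : A →ₐ[k] A ⊗[B] A := Algebra.TensorProduct.includeLeft
  let i₂ : A →ₐ[k] A ⊗[B] A :=
    (Algebra.TensorProduct.includeRight : A →ₐ[B] A ⊗[B] A).restrictScalars k
  let Ξ : A →ₐ[k] A ⊗[B] A :=
    (Algebra.TensorProduct.lift i₁ (i₂.comp (HopfAlgebra.antipodeAlgHom k A))
      (fun _ _ => Commute.all _ _)).comp (Bialgebra.comulAlgHom k A)
  have hker : ∀ r ∈ RingHom.ker x, Ξ (GLin.orbitHom k A x r) = 0 := by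
    intro r hr
    have h : ∀ z : R ⊗[k] A, (Algebra.TensorProduct.lift i₁ (i₂.comp (HopfAlgebra.antipodeAlgHom k A))
        (fun _ _ => Commute.all _ _)) ((GLin.orbitHom k A x).toLinearMap.rTensor A z) =
        (1 : A) ⊗ₜ[B] LinearMap.mul' k A ((HopfAlgebraStruct.antipode k).lTensor A
          ((GLin.orbitHom k A x).toLinearMap.rTensor A z)) := by
      intro z
      induction z with
      | zero => simp
      | tmul p q =>
        simp only [LinearMap.rTensor_tmul, Algebra.TensorProduct.lift_tmul, LinearMap.lTensor_tmul,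
          LinearMap.mul'_apply, AlgHom.toLinearMap_apply]
        show ((GLin.orbitHom k A x p) ⊗ₜ[B] (1 : A)) * ((1 : A) ⊗ₜ[B] HopfAlgebraStruct.antipode k q) = _
        rw [Algebra.TensorProduct.tmul_mul_tmul, mul_one, one_mul]
        have e := TensorProduct.smul_tmul (R := B) (⟨GLin.orbitHom k A x p, p, rfl⟩ : B) (1 : A)
          (HopfAlgebraStruct.antipode k q)
        rw [Algebra.smul_def, Algebra.smul_def, mul_one] at e
        exact e
      | add y z hy hz => simp only [map_add, hy, hz, tmul_add]
    show (Algebra.TensorProduct.lift i₁ (i₂.comp (HopfAlgebra.antipodeAlgHom k A))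
        (fun _ _ => Commute.all _ _)) (Coalgebra.comul (R := k) (GLin.orbitHom k A x r)) = 0
    have hco : (GLin.orbitHom k A x).toLinearMap.rTensor A (HopfRep.Comod.coact (k := k) (A := A) r) =
        Coalgebra.comul (R := k) (GLin.orbitHom k A x r) :=
      ext_slR fun φ => by rw [slR_rTensor, ← actL_apply, AlgHom.toLinearMap_apply, orbitHom_actL]
    have hε : Coalgebra.counit (R := k) (GLin.orbitHom k A x r) = 0 := by
      have h' : ∀ z : R ⊗[k] A, Coalgebra.counit (R := k) (slL x.toLinearMap z) =
          x (slR (Coalgebra.counit (R := k)) z) := by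
        intro z
        induction z with
        | zero => simp
        | tmul p q => simp [mul_comm]
        | add y z hy hz => simp only [map_add, hy, hz]
      rw [orbitHom_eq_slL, h', ← actL_apply, actL_counit]
      exact hr
    rw [← hco, h, hco, HopfAlgebra.mul_antipode_lTensor_comul_apply, hε, map_zero, tmul_zero]
  have hle : GLin.stabIdeal k A x ≤ RingHom.ker Ξ := Ideal.map_le_iff_le_comap.2 fun r hr => hker r hr
  have h0 := hle hJ
  rw [RingHom.mem_ker, map_sub, map_one, sub_eq_zero] at h0
  have h1 : χ ⊗ₜ[B] HopfAlgebraStruct.antipode k χ = (1 : A ⊗[B] A) := by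
    rw [← h0]
    simp [Ξ, i₁, i₂, hχ.comul_eq_tmul_self]
  have h2 : χ ⊗ₜ[B] (1 : A) = (1 : A) ⊗ₜ[B] χ := by
    have h3 := congrArg (· * ((1 : A) ⊗ₜ[B] χ)) h1
    simp only [Algebra.TensorProduct.tmul_mul_tmul, one_mul, mul_one] at h3
    rwa [IsGroupLikeElem.antipode_mul_cancel hχ] at h3
  let N : Submodule B A := LinearMap.range (Algebra.linearMap B A)
  have h4 : (1 : A) ⊗ₜ[B] N.mkQ χ = 0 := by
    have h5 := congrArg (N.mkQ.lTensor A) h2
    rw [LinearMap.lTensor_tmul, LinearMap.lTensor_tmul] at h5
    rw [← h5, show N.mkQ (1 : A) = 0 from (Submodule.Quotient.mk_eq_zero N).2 ⟨1, (map_one (algebraMap B A))⟩, tmul_zero]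
  have h6 : N.mkQ χ = 0 := (Module.FaithfullyFlat.one_tmul_eq_zero_iff B (A ⧸ N) (N.mkQ χ)).1 h4
  obtain ⟨b, hb⟩ := (Submodule.Quotient.mk_eq_zero N).1 h6
  exact hb ▸ b.2

end Character

end Groth.Agent.LinRed
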