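import Groth.Agent.LinRed.Integral
import Groth.Agent.Comod.Tame

/-!
# Invariant rings of linearly reductive groups
-/

set_option autoImplicit false
universe u v w w'

open TensorProduct

namespace Groth.Agent.LinRed

open Groth.Agent.Comod

section Basic

variable {k : Type u} [CommRing k] {H : Type v} [CommRing H] [HopfAlgebra k H]
variable {R : Type w} [CommRing R] [Algebra k R] [HopfRep.Comod k H R] [GLin.IsCoactAlg k H R]

theorem isComodHom_mulLeft {c : R} (hc : c ∈ GLin.invariants k H R) :
    Hoch.IsComodHom H (LinearMap.mulLeft k c) := by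
  apply LinearMap.ext
  intro z
  simp only [LinearMap.comp_apply, LinearMap.mulLeft_apply]
  rw [GLin.IsCoactAlg.coact_mul (k := k), (GLin.mem_invariants_iff k H R c).1 hc]
  generalize HopfRep.Comod.coact (k := k) (A := H) z = w
  induction w with
  | zero => simp
  | tmul p q => simp
  | add p q hp hq => simp only [mul_add, map_add, hp, hq]

theorem actL_mul_invariant (φ : H →ₗ[k] k) {c : R} (hc : c ∈ GLin.invariants k H R) (x : R) :
    actL φ (c * x) = c * actL φ x :=
  (IsComodHom.map_actL (isComodHom_mulLeft hc) φ x).symm

variable {α : H →ₗ[k] k}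

/-- an ideal of the invariant ring is contracted from the ring -/
theorem ideal_comap_map (hα : IsNormIntegral α) (I : Ideal (GLin.invariants k H R)) :
    Ideal.comap (GLin.invariants k H R).val.toRingHom
        (Ideal.map (GLin.invariants k H R).val.toRingHom I) = I := by
  refine le_antisymm (fun x hx => ?_) Ideal.le_comap_map
  have key : ∀ y ∈ Submodule.span R ((GLin.invariants k H R).val.toRingHom '' I),
      ∀ r : R, ∃ z ∈ I, (z : R) = actL α (r • y) := by
    intro y hy
    induction hy using Submodule.span_induction with
    | mem y hy =>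
      obtain ⟨z, hz, rfl⟩ := hy
      intro r
      refine ⟨⟨actL α r, actL_mem_fixedPts hα r⟩ * z, I.mul_mem_left _ hz, ?_⟩
      show actL α r * (z : R) = actL α (r • (z : R))
      rw [smul_eq_mul, mul_comm r, actL_mul_invariant α z.2, mul_comm]
    | zero => exact fun r => ⟨0, I.zero_mem, by simp⟩
    | add a b _ _ ha hb =>
      intro r
      obtain ⟨z, hz, hz'⟩ := ha r
      obtain ⟨z', hz2, hz2'⟩ := hb r
      exact ⟨z + z', I.add_mem hz hz2, by rw [smul_add, map_add, ← hz', ← hz2']; rfl⟩
    | smul s a _ ha =>
      intro r
      obtain ⟨z, hz, hz'⟩ := ha (r * s)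
      exact ⟨z, hz, by rw [hz', smul_smul]⟩
  obtain ⟨z, hz, hz'⟩ := key _ hx 1
  rw [one_smul] at hz'
  have hxz : (z : R) = (x : R) := hz'.trans (actL_eq_self hα (show (x : R) ∈ HopfRep.fixedPts k H R from x.2))
  rwa [← Subtype.ext hxz]

theorem isNoetherianRing_invariants (hα : IsNormIntegral α) [IsNoetherianRing R] :
    IsNoetherianRing (GLin.invariants k H R) := by
  rw [isNoetherianRing_iff, isNoetherian_iff']
  let g : Ideal (GLin.invariants k H R) ↪o Ideal R :=
    OrderEmbedding.ofMapLEIff (fun I => I.map (GLin.invariants k H R).val.toRingHom)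
      fun I J => ⟨fun h => by
        have := Ideal.comap_mono (f := (GLin.invariants k H R).val.toRingHom) h
        rwa [ideal_comap_map hα, ideal_comap_map hα] at this, fun h => Ideal.map_mono h⟩
  exact g.wellFoundedGT

/-- the averaged element of an element conducting a stable ideal into an ideal generated by invariants -/
theorem exists_invariant_conductor (hα : IsNormIntegral α) (I : Ideal R)
    (hI : HopfRep.IsSubcomod (k := k) (A := H) (I.restrictScalars k)) {ι : Type*} (f : ι → R)
    (hf : ∀ i, f i ∈ GLin.invariants k H R) {b : R} (hb1 : b - 1 ∈ I)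
    (hb : ∀ y ∈ I, b * y ∈ Ideal.span (Set.range f)) :
    ∃ b ∈ GLin.invariants k H R, b - 1 ∈ I ∧ ∀ y ∈ I, b * y ∈ Ideal.span (Set.range f) := by
  refine ⟨actL α b, actL_mem_fixedPts hα b, ?_, fun y hy => ?_⟩
  · have h1 : actL α (b - 1) = actL α b - 1 := by
      rw [map_sub, actL_eq_self hα (show (1 : R) ∈ HopfRep.fixedPts k H R from (GLin.invariants k H R).one_mem)]
    rw [← h1]
    exact IsSubcomod.actL_mem hI α hb1
  · let J := Ideal.span (Set.range f)
    let q : R ⊗[k] H →ₐ[k] (R ⧸ J) ⊗[k] H :=
      Algebra.TensorProduct.map (Ideal.Quotient.mkₐ k J) (AlgHom.id k H)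
    have hq : ∀ j ∈ J, q (GLin.coactAlgHom k H R j) = 0 := by
      intro j hj
      have hle : J ≤ RingHom.ker (q.comp (GLin.coactAlgHom k H R)) := by
        refine Ideal.span_le.2 ?_
        rintro _ ⟨i, rfl⟩
        show q (GLin.coactAlgHom k H R (f i)) = 0
        rw [GLin.coactAlgHom_apply, (GLin.mem_invariants_iff k H R (f i)).1 (hf i)]
        have h0 : Ideal.Quotient.mk J (f i) = 0 :=
          Ideal.Quotient.eq_zero_iff_mem.2 (Ideal.subset_span (Set.mem_range_self i))
        simp [q, h0]
      exact hle hj
    let Φ : R ⊗[k] H →ₗ[k] R ⊗[k] H :=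
      TensorProduct.lift (LinearMap.mk₂ k
        (fun u b => GLin.coactAlgHom k H R u * (1 ⊗ₜ[k] HopfAlgebraStruct.antipode k b))
        (fun u u' b => by simp [add_mul]) (fun c u b => by simp [smul_mul_assoc])
        (fun u b b' => by simp [tmul_add, mul_add]) (fun c u b => by simp [TensorProduct.tmul_smul, mul_smul_comm]))
    have hΦ : Φ (HopfRep.Comod.coact (k := k) (A := H) y) = y ⊗ₜ[k] (1 : H) := by
      let G : R ⊗[k] (H ⊗[k] H) →ₗ[k] R ⊗[k] H :=
        (LinearMap.mul' k H ∘ₗ (HopfAlgebraStruct.antipode k).lTensor H).lTensor R
      have h1 : ∀ z : R ⊗[k] H, Φ z =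
          G (TensorProduct.assoc k R H H ((HopfRep.Comod.coact (k := k) (A := H)).rTensor H z)) := by
        intro z
        induction z with
        | zero => simp
        | tmul u b =>
          simp only [Φ, TensorProduct.lift.tmul, LinearMap.mk₂_apply, GLin.coactAlgHom_apply,
            LinearMap.rTensor_tmul]
          generalize HopfRep.Comod.coact (k := k) (A := H) u = x
          induction x with
          | zero => simp
          | tmul p r => simp [G]
          | add y z hy hz => simp only [add_mul, map_add, add_tmul, hy, hz]
        | add y z hy hz => simp only [map_add, hy, hz]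
      have hco := LinearMap.congr_fun (HopfRep.Comod.coassoc (k := k) (A := H) (V := R)) y
      simp only [LinearMap.comp_apply, LinearEquiv.coe_coe] at hco
      rw [h1, hco]
      have h2 : ∀ z : R ⊗[k] H, G ((Coalgebra.comul (R := k)).lTensor R z) =
          slR (Coalgebra.counit (R := k)) z ⊗ₜ[k] (1 : H) := by
        intro z
        induction z with
        | zero => simp
        | tmul u b =>
          simp only [G, LinearMap.lTensor_tmul, LinearMap.comp_apply,
            HopfAlgebra.mul_antipode_lTensor_comul_apply, Algebra.algebraMap_eq_smul_one, slR_tmul,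
            TensorProduct.smul_tmul]
        | add y z hy hz => simp only [map_add, add_tmul, hy, hz]
      rw [h2, ← actL_apply, actL_counit]
    have hzero : q (GLin.coactAlgHom k H R b * (y ⊗ₜ[k] (1 : H))) = 0 := by
      rw [← hΦ]
      obtain ⟨z, hz⟩ := hI y hy
      rw [← hz]
      clear hz hΦ
      induction z with
      | zero => simp
      | tmul p r =>
        rw [LinearMap.rTensor_tmul, show Φ ((Submodule.subtype _) p ⊗ₜ[k] r) =
          GLin.coactAlgHom k H R (p : R) * (1 ⊗ₜ[k] HopfAlgebraStruct.antipode k r) from rfl,
          ← mul_assoc, ← map_mul, map_mul q, hq _ (hb p p.2), zero_mul]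
      | add s t hs ht => simp only [map_add, mul_add, hs, ht, add_zero]
    have h3 : ∀ z : R ⊗[k] H,
        slR α (q (z * (y ⊗ₜ[k] (1 : H)))) = Ideal.Quotient.mkₐ k J (slR α z * y) := by
      intro z
      induction z with
      | zero => simp
      | tmul p r => simp [q, smul_mul_assoc, Algebra.smul_def, mul_assoc]
      | add s t hs ht => simp only [map_add, add_mul, hs, ht]
    have h4 := h3 (GLin.coactAlgHom k H R b)
    rw [hzero, map_zero, GLin.coactAlgHom_apply, ← actL_apply] at h4
    exact Ideal.Quotient.eq_zero_iff_mem.1 h4.symm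

variable {M : Type w'} [AddCommGroup M] [Module k M] [Module R M] [IsScalarTower k R M]
  [HopfRep.Comod k H M] [TameAct.IsHopfMod k H R M]

/-- invariants of an equivariant finite module -/
theorem exists_finset_fixedPts_span (hα : IsNormIntegral α) [IsNoetherian R M] :
    ∃ s : Finset M, (↑s : Set M) ⊆ ↑(HopfRep.fixedPts k H M) ∧
      (↑(HopfRep.fixedPts k H M) : Set M) ⊆
        ↑(Submodule.span ↥(GLin.invariants k H R) (↑s : Set M)) := by
  obtain ⟨s, hs, heq⟩ := (Submodule.fg_span_iff_fg_span_finset_subset (R := R) _).1
    (IsNoetherian.noetherian (Submodule.span R (HopfRep.fixedPts k H M : Set M)))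
  refine ⟨s, hs, fun x hx => ?_⟩
  have hx' : x ∈ Submodule.span R (↑s : Set M) := heq ▸ Submodule.subset_span hx
  obtain ⟨f, -, rfl⟩ := Submodule.mem_span_finset.1 hx'
  rw [SetLike.mem_coe, ← actL_eq_self hα hx, map_sum]
  refine Submodule.sum_mem _ fun m hm => ?_
  have hhom : Hoch.IsComodHom H ((LinearMap.toSpanSingleton R M m).restrictScalars k) := by
    apply LinearMap.ext
    intro a
    simp only [LinearMap.comp_apply, LinearMap.restrictScalars_apply, LinearMap.toSpanSingleton_apply]
    rw [TameAct.IsHopfMod.coact_smul, show HopfRep.Comod.coact (k := k) (A := H) m = m ⊗ₜ[k] (1 : H) from hs hm]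
    generalize HopfRep.Comod.coact (k := k) (A := H) a = z
    induction z with
    | zero => simp
    | tmul p r => simp
    | add y z hy hz => simp only [map_add, LinearMap.add_apply, hy, hz]
  have h2 := IsComodHom.map_actL hhom α (f m)
  simp only [LinearMap.restrictScalars_apply, LinearMap.toSpanSingleton_apply] at h2
  rw [← h2]
  exact Submodule.smul_mem _ (⟨actL α (f m), actL_mem_fixedPts hα _⟩ : GLin.invariants k H R)
    (Submodule.subset_span hm)

end Basic

section Relative

variable {k : Type u} [Field k] {H : Type v} [CommRing H] [HopfAlgebra k H]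

theorem mvPolynomial_algHom_ext {A : Type w} [CommRing A] [Algebra k A] {σ : Type*} {B : Type*}
    [CommRing B] [Algebra k B] {g g' : MvPolynomial σ A →ₐ[k] B}
    (hC : ∀ a, g (MvPolynomial.C a) = g' (MvPolynomial.C a))
    (hX : ∀ i, g (MvPolynomial.X i) = g' (MvPolynomial.X i)) : g = g' :=
  AlgHom.coe_ringHom_injective (MvPolynomial.ringHom_ext hC hX)

theorem homogeneousComponent_mul_homogeneous {A : Type w} [CommRing A] {σ : Type*} (p q : MvPolynomial σ A)
    {e : ℕ} (hq : q.IsHomogeneous e) (d : ℕ) :
    MvPolynomial.homogeneousComponent d (p * q) =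
      if e ≤ d then MvPolynomial.homogeneousComponent (d - e) p * q else 0 := by
  induction p using MvPolynomial.induction_on' with
  | monomial m c =>
    rw [MvPolynomial.homogeneousComponent_of_mem ((MvPolynomial.isHomogeneous_monomial c rfl).mul hq),
      MvPolynomial.homogeneousComponent_of_mem (MvPolynomial.isHomogeneous_monomial c rfl)]
    split_ifs <;> first | omega | rfl | rw [zero_mul]
  | add a b ha hb => rw [add_mul, map_add, ha, hb, map_add]; split_ifs <;> simp [add_mul]

variable {α : H →ₗ[k] k}

/-- relative finite generation of invariants -/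
theorem exists_finset_invariants_eq (hα : IsNormIntegral α)
    (A : Type w) [CommRing A] [Algebra k A] [IsNoetherianRing A]
    [HopfRep.Comod k H A] [GLin.IsCoactAlg k H A]
    (C : Type w') [CommRing C] [Algebra k C] [cC : HopfRep.Comod k H C] [GLin.IsCoactAlg k H C]
    [Algebra A C] [IsScalarTower k A C] [hft : Algebra.FiniteType A C]
    (hAC : Hoch.IsComodHom H (IsScalarTower.toAlgHom k A C).toLinearMap) :
    ∃ s : Finset C, GLin.invariants k H C =
      Algebra.adjoin k (⇑(algebraMap A C) '' ↑(GLin.invariants k H A) ∪ ↑s) := by
  classical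
  obtain ⟨t, ht⟩ := hft.out
  obtain ⟨V, hV, htV, hVc⟩ := exists_finite_subcomod (k := k) (A := H) (V := C) (t : Set C) t.finite_toSet
  let b := Module.finBasis k V
  letI cV : HopfRep.Comod k H V := ComodSub.Comod.restr cC V hVc
  let φ : V →ₗ[k] MvPolynomial (Fin (Module.finrank k V)) A := b.constr k MvPolynomial.X
  have hφ : ∀ v : V, (φ v).IsHomogeneous 1 := fun v => by
    rw [← MvPolynomial.mem_homogeneousSubmodule, Module.Basis.constr_apply_fintype]
    exact Submodule.sum_mem _ fun i _ =>
      Submodule.smul_of_tower_mem _ _ (MvPolynomial.isHomogeneous_X A i)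
  let gA : A →ₐ[k] MvPolynomial (Fin (Module.finrank k V)) A ⊗[k] H :=
    (Algebra.TensorProduct.map (IsScalarTower.toAlgHom k A (MvPolynomial (Fin (Module.finrank k V)) A))
      (AlgHom.id k H)).comp (GLin.coactAlgHom k H A)
  let ρP : MvPolynomial (Fin (Module.finrank k V)) A →ₐ[k] MvPolynomial (Fin (Module.finrank k V)) A ⊗[k] H :=
    MvPolynomial.aevalTower gA fun j => φ.rTensor H (cV.coact (b j))
  have hgA : ∀ a, gA a =
      (IsScalarTower.toAlgHom k A (MvPolynomial (Fin (Module.finrank k V)) A)).toLinearMap.rTensor H
        (HopfRep.Comod.coact (k := k) (A := H) a) := fun a => rfl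
  have hρC : ∀ a, ρP (MvPolynomial.C a) = gA a := MvPolynomial.aevalTower_C _ _
  have hρφ : ∀ v : V, ρP (φ v) = φ.rTensor H (cV.coact v) := by
    intro v
    have : ρP.toLinearMap ∘ₗ φ = φ.rTensor H ∘ₗ cV.coact := b.ext fun j => by
      simp [φ, ρP, Module.Basis.constr_basis]
    exact LinearMap.congr_fun this v
  letI cP : HopfRep.Comod k H (MvPolynomial (Fin (Module.finrank k V)) A) :=
    { coact := ρP.toLinearMap
      coassoc := by
        let g1 : MvPolynomial (Fin (Module.finrank k V)) A →ₐ[k]
            MvPolynomial (Fin (Module.finrank k V)) A ⊗[k] (H ⊗[k] H) :=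
          (Algebra.TensorProduct.assoc k k k (MvPolynomial (Fin (Module.finrank k V)) A) H H).toAlgHom.comp
            ((Algebra.TensorProduct.map ρP (AlgHom.id k H)).comp ρP)
        let g2 : MvPolynomial (Fin (Module.finrank k V)) A →ₐ[k]
            MvPolynomial (Fin (Module.finrank k V)) A ⊗[k] (H ⊗[k] H) :=
          (Algebra.TensorProduct.map (AlgHom.id k _) (Bialgebra.comulAlgHom k H)).comp ρP
        have hg1 : ∀ p, g1 p = TensorProduct.assoc k _ H H (ρP.toLinearMap.rTensor H (ρP p)) := by
          intro p
          show Algebra.TensorProduct.assoc k k k _ H H (Algebra.TensorProduct.map ρP (AlgHom.id k H) (ρP p)) = _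
          generalize ρP p = z
          induction z with
          | zero => simp
          | tmul s r =>
            simp only [Algebra.TensorProduct.map_tmul, AlgHom.coe_id, id_eq, LinearMap.rTensor_tmul,
              AlgHom.toLinearMap_apply]
            generalize ρP s = y
            induction y with
            | zero => simp
            | tmul c d => simp
            | add y z hy hz => simp only [map_add, add_tmul, hy, hz]
          | add y z hy hz => simp only [map_add, hy, hz]
        have hg2 : ∀ p, g2 p = (Coalgebra.comul (R := k)).lTensor _ (ρP p) := fun p => rfl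
        have hnat : ∀ {X : Type (max w' 0)} [AddCommGroup X] [Module k X] (ρX : X →ₗ[k] X ⊗[k] H)
            (f : X →ₗ[k] MvPolynomial (Fin (Module.finrank k V)) A),
            (∀ x, ρP (f x) = f.rTensor H (ρX x)) → ∀ z : X ⊗[k] H,
            TensorProduct.assoc k _ H H (ρP.toLinearMap.rTensor H (f.rTensor H z)) =
              f.rTensor (H ⊗[k] H) (TensorProduct.assoc k X H H (ρX.rTensor H z)) := by
          intro X _ _ ρX f hf z
          induction z with
          | zero => simp
          | tmul x r =>
            simp only [LinearMap.rTensor_tmul, AlgHom.toLinearMap_apply, hf]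
            generalize ρX x = y
            induction y with
            | zero => simp
            | tmul c d => simp
            | add y z hy hz => simp only [map_add, add_tmul, hy, hz]
          | add y z hy hz => simp only [map_add, hy, hz]
        have heq : g1 = g2 := by
          refine mvPolynomial_algHom_ext (fun a => ?_) (fun j => ?_)
          · rw [hg1, hg2, hρC, hgA]
            have hl : ∀ z : A ⊗[k] H,
                TensorProduct.assoc k _ H H (ρP.toLinearMap.rTensor H
                    ((IsScalarTower.toAlgHom k A (MvPolynomial (Fin (Module.finrank k V)) A)).toLinearMap.rTensor H z)) =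
                  (IsScalarTower.toAlgHom k A (MvPolynomial (Fin (Module.finrank k V)) A)).toLinearMap.rTensor
                    (H ⊗[k] H) (TensorProduct.assoc k A H H
                      ((HopfRep.Comod.coact (k := k) (A := H)).rTensor H z)) := by
              intro z
              induction z with
              | zero => simp
              | tmul x r =>
                simp only [LinearMap.rTensor_tmul, AlgHom.toLinearMap_apply]
                rw [show ρP (IsScalarTower.toAlgHom k A _ x) = gA x from hρC x, hgA]
                generalize HopfRep.Comod.coact (k := k) (A := H) x = y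
                induction y with
                | zero => simp
                | tmul c d => simp
                | add y z hy hz => simp only [map_add, add_tmul, hy, hz]
              | add y z hy hz => simp only [map_add, hy, hz]
            have hco := LinearMap.congr_fun (HopfRep.Comod.coassoc (k := k) (A := H) (V := A)) a
            simp only [LinearMap.comp_apply, LinearEquiv.coe_coe] at hco
            rw [hl, hco]
            exact (ComodTens.lTensor_rTensor_comm _ _ _).symm
          · rw [hg1, hg2, show MvPolynomial.X j = φ (b j) from (Module.Basis.constr_basis _ _ _ _).symm, hρφ,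
              hnat cV.coact φ hρφ]
            have hco := LinearMap.congr_fun cV.coassoc (b j)
            simp only [LinearMap.comp_apply, LinearEquiv.coe_coe] at hco
            rw [hco]
            exact (ComodTens.lTensor_rTensor_comm _ _ _).symm
        apply LinearMap.ext
        intro p
        exact ((hg1 p).symm.trans (DFunLike.congr_fun heq p)).trans (hg2 p)
      counit_comp := by
        let g1 : MvPolynomial (Fin (Module.finrank k V)) A →ₐ[k]
            MvPolynomial (Fin (Module.finrank k V)) A ⊗[k] k :=
          (Algebra.TensorProduct.map (AlgHom.id k _) (Bialgebra.counitAlgHom k H)).comp ρP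
        have heq : g1 = Algebra.TensorProduct.includeLeft := by
          refine mvPolynomial_algHom_ext (fun a => ?_) (fun j => ?_)
          · show (Coalgebra.counit (R := k)).lTensor _ (ρP (MvPolynomial.C a)) = MvPolynomial.C a ⊗ₜ[k] (1 : k)
            rw [hρC, hgA, ComodTens.lTensor_rTensor_comm]
            have hco := LinearMap.congr_fun (HopfRep.Comod.counit_comp (k := k) (A := H) (V := A)) a
            simp only [LinearMap.comp_apply] at hco
            rw [hco]
            rfl
          · show (Coalgebra.counit (R := k)).lTensor _ (ρP (MvPolynomial.X j)) = MvPolynomial.X j ⊗ₜ[k] (1 : k)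
            rw [show MvPolynomial.X j = φ (b j) from (Module.Basis.constr_basis _ _ _ _).symm, hρφ,
              ComodTens.lTensor_rTensor_comm]
            have hco := LinearMap.congr_fun cV.counit_comp (b j)
            simp only [LinearMap.comp_apply] at hco
            rw [hco]
            rfl
        exact LinearMap.ext fun p => DFunLike.congr_fun heq p }
  haveI : GLin.IsCoactAlg k H (MvPolynomial (Fin (Module.finrank k V)) A) := ⟨map_one ρP, map_mul ρP⟩
  -- the presentation
  let π : MvPolynomial (Fin (Module.finrank k V)) A →ₐ[k] C :=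
    MvPolynomial.aevalTower (IsScalarTower.toAlgHom k A C) fun i => (b i : C)
  have hπC : ∀ a, π (MvPolynomial.C a) = algebraMap A C a := MvPolynomial.aevalTower_C _ _
  have hπφ : ∀ v : V, π (φ v) = (v : C) := by
    intro v
    have : π.toLinearMap ∘ₗ φ = V.subtype := b.ext fun j => by simp [φ, π, Module.Basis.constr_basis]
    exact LinearMap.congr_fun this v
  have hπ : Hoch.IsComodHom H π.toLinearMap := by
    have heq : (GLin.coactAlgHom k H C).comp π = (Algebra.TensorProduct.map π (AlgHom.id k H)).comp ρP := by
      refine mvPolynomial_algHom_ext (fun a => ?_) (fun j => ?_)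
      · show GLin.coactAlgHom k H C (π (MvPolynomial.C a)) = π.toLinearMap.rTensor H (ρP (MvPolynomial.C a))
        rw [hπC, hρC, hgA, ← LinearMap.rTensor_comp_apply, GLin.coactAlgHom_apply]
        have h := LinearMap.congr_fun hAC a
        simp only [LinearMap.comp_apply] at h
        refine h.trans ?_
        congr 2
        ext x
        exact (hπC x).symm
      · show GLin.coactAlgHom k H C (π (MvPolynomial.X j)) = π.toLinearMap.rTensor H (ρP (MvPolynomial.X j))
        rw [show MvPolynomial.X j = φ (b j) from (Module.Basis.constr_basis _ _ _ _).symm, hπφ, hρφ,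
          GLin.coactAlgHom_apply, ← LinearMap.rTensor_comp_apply, ← ComodSub.restr_coact_coe cC V hVc (b j)]
        congr 2
        ext x
        exact (hπφ x).symm
    exact LinearMap.ext fun p => DFunLike.congr_fun heq p
  have hπs : Function.Surjective π.toLinearMap := by
    intro c
    have hc : c ∈ Algebra.adjoin A (t : Set C) := ht ▸ Algebra.mem_top
    show c ∈ Set.range π
    induction hc using Algebra.adjoin_induction with
    | mem x hx => exact ⟨φ ⟨x, htV hx⟩, hπφ _⟩
    | algebraMap r => exact ⟨MvPolynomial.C r, hπC r⟩
    | add x y _ _ hx hy =>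
      obtain ⟨p, rfl⟩ := hx; obtain ⟨q, rfl⟩ := hy; exact ⟨p + q, map_add π p q⟩
    | mul x y _ _ hx hy =>
      obtain ⟨p, rfl⟩ := hx; obtain ⟨q, rfl⟩ := hy; exact ⟨p * q, map_mul π p q⟩
  -- the grading is equivariant
  let hc : ℕ → MvPolynomial (Fin (Module.finrank k V)) A →ₗ[k] MvPolynomial (Fin (Module.finrank k V)) A :=
    fun d => (MvPolynomial.homogeneousComponent d).restrictScalars k
  have hdeg : ∀ p d, (hc d).rTensor H (ρP p) = ρP (hc d p) := by
    intro p
    induction p using MvPolynomial.induction_on with
    | C a =>
      intro d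
      show _ = ρP (MvPolynomial.homogeneousComponent d (MvPolynomial.C a))
      rw [MvPolynomial.homogeneousComponent_of_mem (MvPolynomial.isHomogeneous_C _ a), apply_ite ρP, map_zero,
        hρC, hgA, ← LinearMap.rTensor_comp_apply]
      have : hc d ∘ₗ (IsScalarTower.toAlgHom k A (MvPolynomial (Fin (Module.finrank k V)) A)).toLinearMap =
          if d = 0 then (IsScalarTower.toAlgHom k A (MvPolynomial (Fin (Module.finrank k V)) A)).toLinearMap
          else 0 := by
        ext x : 1
        show MvPolynomial.homogeneousComponent d (MvPolynomial.C x) = _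
        rw [MvPolynomial.homogeneousComponent_of_mem (MvPolynomial.isHomogeneous_C _ x)]
        split_ifs <;> rfl
      rw [this]
      split_ifs <;> simp
    | add p q hp hq => intro d; simp only [map_add, hp, hq]
    | mul_X p i hp =>
      intro d
      have hX : MvPolynomial.X i = φ (b i) := (Module.Basis.constr_basis _ _ _ _).symm
      show _ = ρP (MvPolynomial.homogeneousComponent d (p * MvPolynomial.X i))
      rw [homogeneousComponent_mul_homogeneous _ _ (MvPolynomial.isHomogeneous_X A i), map_mul ρP, hX, hρφ,
        apply_ite ρP, map_zero, map_mul ρP, hρφ]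
      have key : ∀ (z : MvPolynomial (Fin (Module.finrank k V)) A ⊗[k] H) (w : V ⊗[k] H),
          (hc d).rTensor H (z * φ.rTensor H w) =
            if 1 ≤ d then (hc (d - 1)).rTensor H z * φ.rTensor H w else 0 := by
        intro z w
        induction z with
        | zero => simp
        | tmul q r =>
          induction w with
          | zero => simp
          | tmul v s =>
            simp only [LinearMap.rTensor_tmul, Algebra.TensorProduct.tmul_mul_tmul]
            show MvPolynomial.homogeneousComponent d (q * φ v) ⊗ₜ[k] (r * s) = _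
            rw [homogeneousComponent_mul_homogeneous _ _ (hφ v)]
            split_ifs <;> simp [hc]
          | add y z hy hz =>
            simp only [map_add, mul_add, hy, hz]
            split_ifs <;> simp
        | add y z hy hz =>
          simp only [map_add, add_mul, hy, hz]
          split_ifs <;> simp
      rw [key]
      split_ifs
      · rw [hp]; rfl
      · rfl
  have hhom : ∀ d, Hoch.IsComodHom H (hc d) := fun d => LinearMap.ext fun p => (hdeg p d).symm
  -- homogeneous invariants of positive degree
  let Q := GLin.invariants k H (MvPolynomial (Fin (Module.finrank k V)) A)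
  haveI : IsNoetherianRing Q := isNoetherianRing_invariants hα
  let T : Set Q := {x | ∃ e : ℕ, 0 < e ∧ (x : MvPolynomial (Fin (Module.finrank k V)) A).IsHomogeneous e}
  obtain ⟨T₀, hT₀, hspan⟩ := (Submodule.fg_span_iff_fg_span_finset_subset (R := Q) T).1
    (IsNoetherian.noetherian (Submodule.span Q T))
  let S₀ : Set (MvPolynomial (Fin (Module.finrank k V)) A) :=
    MvPolynomial.C '' ↑(GLin.invariants k H A) ∪ ((fun x : Q => (x : MvPolynomial _ A)) '' ↑T₀)
  have hgen : ∀ (d : ℕ) (x : Q), (x : MvPolynomial (Fin (Module.finrank k V)) A).IsHomogeneous d →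
      (x : MvPolynomial (Fin (Module.finrank k V)) A) ∈ Algebra.adjoin k S₀ := by
    intro d
    induction d using Nat.strong_induction_on with
    | _ d ih =>
      intro x hx
      rcases Nat.eq_zero_or_pos d with rfl | hd
      · have h0 := MvPolynomial.homogeneousComponent_eq_self hx
        rw [MvPolynomial.homogeneousComponent_zero] at h0
        refine Algebra.subset_adjoin (Or.inl ⟨_, ?_, h0⟩)
        have hxfix : ρP (x : MvPolynomial (Fin (Module.finrank k V)) A) = (x : MvPolynomial _ A) ⊗ₜ[k] (1 : H) := x.2
        rw [← h0, hρC, hgA] at hxfix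
        refine (GLin.mem_invariants_iff k H A _).2 (Module.Flat.rTensor_preserves_injective_linearMap
          (IsScalarTower.toAlgHom k A (MvPolynomial (Fin (Module.finrank k V)) A)).toLinearMap
          (MvPolynomial.C_injective _ _) ?_)
        rw [hxfix, LinearMap.rTensor_tmul]
        rfl
      · have hxT : x ∈ Submodule.span Q (↑T₀ : Set Q) := hspan ▸ Submodule.subset_span ⟨d, hd, hx⟩
        obtain ⟨f, -, hf⟩ := Submodule.mem_span_finset.1 hxT
        have hf' : (∑ a ∈ T₀, (f a : MvPolynomial (Fin (Module.finrank k V)) A) * (a : MvPolynomial _ A)) =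
            (x : MvPolynomial _ A) := by rw [← hf]; simp
        rw [← MvPolynomial.homogeneousComponent_eq_self hx, ← hf', map_sum]
        refine Subalgebra.sum_mem _ fun a ha => ?_
        obtain ⟨e, he, hae⟩ := hT₀ ha
        rw [homogeneousComponent_mul_homogeneous _ _ hae]
        split_ifs with hle
        · refine Subalgebra.mul_mem _ (ih (d - e) (by omega)
            ⟨_, map_mem_fixedPts (hhom (d - e)) (show (f a : MvPolynomial _ A) ∈ HopfRep.fixedPts k H _ from (f a).2)⟩
            (MvPolynomial.homogeneousComponent_isHomogeneous _ _))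
            (Algebra.subset_adjoin (Or.inr ⟨a, ha, rfl⟩))
        · exact Subalgebra.zero_mem _
  refine ⟨T₀.image fun x : Q => π (x : MvPolynomial (Fin (Module.finrank k V)) A), le_antisymm ?_ ?_⟩
  · intro c hc'
    obtain ⟨p, hp, rfl⟩ := exists_fixedPts_map_eq hα hπ hπs (show c ∈ HopfRep.fixedPts k H C from hc')
    have hpS : p ∈ Algebra.adjoin k S₀ := by
      rw [← MvPolynomial.sum_homogeneousComponent p]
      refine Subalgebra.sum_mem _ fun d _ => hgen d ⟨_, map_mem_fixedPts (hhom d) hp⟩
        (MvPolynomial.homogeneousComponent_isHomogeneous _ _)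
    have h2 : π p ∈ (Algebra.adjoin k S₀).map π := ⟨p, hpS, rfl⟩
    rw [AlgHom.map_adjoin] at h2
    refine Algebra.adjoin_mono ?_ h2
    rintro _ ⟨y, (⟨a, ha, rfl⟩ | ⟨a, ha, rfl⟩), rfl⟩
    · exact Or.inl ⟨a, ha, (hπC a).symm⟩
    · exact Or.inr (Finset.mem_coe.2 (Finset.mem_image.2 ⟨a, ha, rfl⟩))
  · rw [Algebra.adjoin_le_iff]
    rintro c (⟨a, ha, rfl⟩ | hc')
    · exact map_mem_fixedPts hAC (show a ∈ HopfRep.fixedPts k H A from ha)
    · obtain ⟨x, -, rfl⟩ := Finset.mem_image.1 (Finset.mem_coe.1 hc')
      exact map_mem_fixedPts hπ (show (x : MvPolynomial (Fin (Module.finrank k V)) A) ∈ HopfRep.fixedPts k H (MvPolynomial (Fin (Module.finrank k V)) A) from x.2)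

end Relative

end Groth.Agent.LinRed
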