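import Groth.Agent.LinRed.InvariantRing
import Groth.Prelude.Def_GLin

/-!
# Invariants separate orbit closures
-/

set_option autoImplicit false
universe u v w

open TensorProduct

namespace Groth.Agent.LinRed

open Groth.Agent.Comod

section Orbit

variable {k : Type u} [CommRing k] {A : Type v} [CommRing A] [HopfAlgebra k A]
variable {R : Type w} [CommRing R] [Algebra k R] [HopfRep.Comod k A R] [GLin.IsCoactAlg k A R]

theorem orbitHom_eq_slL (x : R →ₐ[k] k) (f : R) :
    GLin.orbitHom k A x f = slL x.toLinearMap (HopfRep.Comod.coact (k := k) (A := A) f) := by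
  show Algebra.TensorProduct.lid k A (Algebra.TensorProduct.map x (AlgHom.id k A) (GLin.coactAlgHom k A R f)) = _
  rw [GLin.coactAlgHom_apply]
  generalize HopfRep.Comod.coact (k := k) (A := A) f = y
  induction y with
  | zero => simp
  | tmul p q => simp
  | add y z hy hz => simp only [map_add, hy, hz]

theorem orbitHom_actL (x : R →ₐ[k] k) (φ : A →ₗ[k] k) (f : R) :
    GLin.orbitHom k A x (actL φ f) = slR φ (Coalgebra.comul (R := k) (GLin.orbitHom k A x f)) := by
  simp only [orbitHom_eq_slL, actL_apply]
  let G : R ⊗[k] (A ⊗[k] A) →ₗ[k] A := slR φ ∘ₗ slL x.toLinearMap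
  have h1 : ∀ z : R ⊗[k] A, slL x.toLinearMap (HopfRep.Comod.coact (k := k) (A := A) (slR φ z)) =
      G (TensorProduct.assoc k R A A ((HopfRep.Comod.coact (k := k) (A := A)).rTensor A z)) := by
    intro z
    induction z with
    | zero => simp
    | tmul p q =>
      rw [slR_tmul, map_smul, map_smul, LinearMap.rTensor_tmul]
      generalize HopfRep.Comod.coact (k := k) (A := A) p = y
      induction y with
      | zero => simp
      | tmul s t => simp [G, smul_smul, mul_comm]
      | add y z hy hz => simp only [map_add, add_tmul, smul_add, hy, hz]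
    | add y z hy hz => simp only [map_add, hy, hz]
  have h2 : ∀ z : R ⊗[k] A, G ((Coalgebra.comul (R := k)).lTensor R z) =
      slR φ (Coalgebra.comul (R := k) (slL x.toLinearMap z)) := by
    intro z
    induction z with
    | zero => simp
    | tmul p q => simp [G]
    | add y z hy hz => simp only [map_add, hy, hz]
  have hco := LinearMap.congr_fun (HopfRep.Comod.coassoc (k := k) (A := A) (V := R)) f
  simp only [LinearMap.comp_apply, LinearEquiv.coe_coe] at hco
  rw [h1, hco, h2]

theorem orbitHom_invariant (x : R →ₐ[k] k) {f : R} (hf : f ∈ GLin.invariants k A R) :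
    GLin.orbitHom k A x f = x f • (1 : A) := by
  rw [orbitHom_eq_slL, (GLin.mem_invariants_iff k A R f).1 hf, slL_tmul]
  rfl

theorem apply_eq_of_inOrbitClosure [Nontrivial k] {x z : R →ₐ[k] k} (h : GLin.InOrbitClosure k A x z)
    {f : R} (hf : f ∈ GLin.invariants k A R) : z f = x f := by
  have h1 : f - algebraMap k R (x f) ∈ RingHom.ker (GLin.orbitHom k A x) := by
    rw [RingHom.mem_ker, map_sub, orbitHom_invariant x hf, AlgHom.commutes, Algebra.algebraMap_eq_smul_one,
      sub_self]
  have h2 := h h1
  rw [RingHom.mem_ker, map_sub, AlgHom.commutes, sub_eq_zero] at h2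
  exact h2

end Orbit

section Sep

variable {k : Type u} [Field k] [IsAlgClosed k] {A : Type v} [CommRing A] [HopfAlgebra k A]
variable {R : Type w} [CommRing R] [Algebra k R] [Algebra.FiniteType k R] [HopfRep.Comod k A R]
  [GLin.IsCoactAlg k A R]

theorem exists_point_of_ne_top (I : Ideal R) (hI : I ≠ ⊤) : ∃ z : R →ₐ[k] k, I ≤ RingHom.ker z := by
  obtain ⟨m, hm, hIm⟩ := Ideal.exists_le_maximal I hI
  letI : Field (R ⧸ m) := Ideal.Quotient.field m
  haveI : Algebra.FiniteType k (R ⧸ m) :=
    Algebra.FiniteType.of_surjective (Ideal.Quotient.mkₐ k m) (Ideal.Quotient.mkₐ_surjective k m)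
  haveI : Module.Finite k (R ⧸ m) := finite_of_finite_type_of_isJacobsonRing k (R ⧸ m)
  let e : k ≃ₐ[k] R ⧸ m := AlgEquiv.ofBijective (Algebra.ofId k (R ⧸ m))
    IsAlgClosed.algebraMap_bijective_of_isIntegral
  refine ⟨e.symm.toAlgHom.comp (Ideal.Quotient.mkₐ k m), fun r hr => ?_⟩
  rw [RingHom.mem_ker]
  show e.symm (Ideal.Quotient.mk m r) = 0
  rw [Ideal.Quotient.eq_zero_iff_mem.2 (hIm hr), map_zero]

theorem comp_invariants_eq_iff {α : A →ₗ[k] k} (hα : IsNormIntegral α) (x₁ x₂ : R →ₐ[k] k) :
    x₁.comp (GLin.invariants k A R).val = x₂.comp (GLin.invariants k A R).val ↔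
      ∃ z : R →ₐ[k] k, GLin.InOrbitClosure k A x₁ z ∧ GLin.InOrbitClosure k A x₂ z := by
  constructor
  · intro h
    by_contra hne
    have htop : RingHom.ker (GLin.orbitHom k A x₁) ⊔ RingHom.ker (GLin.orbitHom k A x₂) = ⊤ := by
      by_contra hlt
      obtain ⟨z, hz⟩ := exists_point_of_ne_top (k := k) _ hlt
      exact hne ⟨z, le_sup_left.trans hz, le_sup_right.trans hz⟩
    obtain ⟨a, ha, b, hb, hab⟩ := Submodule.mem_sup.1 ((Ideal.eq_top_iff_one _).1 htop)
    have hE : ∀ (x : R →ₐ[k] k) (c : R), c ∈ RingHom.ker (GLin.orbitHom k A x) → x (actL α c) = 0 := by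
      intro x c hc
      have h1 : GLin.orbitHom k A x (actL α c) = 0 := by
        rw [orbitHom_actL, show GLin.orbitHom k A x c = 0 from hc, map_zero, map_zero]
      rw [orbitHom_invariant x (show actL α c ∈ GLin.invariants k A R from actL_mem_fixedPts hα c)] at h1
      have h2 := congrArg (Coalgebra.counit (R := k)) h1
      simpa using h2
    have h1 : actL α a + actL α b = 1 := by
      rw [← map_add, hab, actL_eq_self hα (show (1 : R) ∈ HopfRep.fixedPts k A R from
        (GLin.invariants k A R).one_mem)]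
    have h2 := congrArg x₂ h1
    have h3 : x₂ (actL α a) = x₁ (actL α a) :=
      (DFunLike.congr_fun h (⟨actL α a, actL_mem_fixedPts hα a⟩ : GLin.invariants k A R)).symm
    rw [map_add, h3, hE x₁ a ha, hE x₂ b hb, map_one, add_zero] at h2
    exact zero_ne_one h2
  · rintro ⟨z, h1, h2⟩
    ext ⟨f, hf⟩
    exact (apply_eq_of_inOrbitClosure h1 hf).symm.trans (apply_eq_of_inOrbitClosure h2 hf)

end Sep

section Linear

variable {k : Type u} [Field k] {A : Type v} [CommRing A] [HopfAlgebra k A]
variable {ι : Type w} [Fintype ι] [HopfRep.Comod k A (MvPolynomial ι k)]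
  [GLin.IsCoactAlg k A (MvPolynomial ι k)]

theorem isComodHom_homogeneousComponent (hlin : GLin.IsLinear k A ι) (d : ℕ) :
    Hoch.IsComodHom A (MvPolynomial.homogeneousComponent d : MvPolynomial ι k →ₗ[k] MvPolynomial ι k) := by
  refine LinearMap.ext fun p => Eq.symm ?_
  simp only [LinearMap.comp_apply]
  induction p using MvPolynomial.induction_on generalizing d with
  | C c =>
    have h1 : HopfRep.Comod.coact (k := k) (A := A) (MvPolynomial.C c : MvPolynomial ι k) =
        MvPolynomial.C c ⊗ₜ[k] (1 : A) := (GLin.invariants k A (MvPolynomial ι k)).algebraMap_mem c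
    rw [h1, LinearMap.rTensor_tmul,
      MvPolynomial.homogeneousComponent_of_mem (MvPolynomial.isHomogeneous_C _ c)]
    split_ifs <;> simp [h1]
  | add p q hp hq => simp only [map_add, hp, hq]
  | mul_X p i hp =>
    obtain ⟨m, hm⟩ := hlin i
    have key : ∀ z : MvPolynomial ι k ⊗[k] A,
        (MvPolynomial.homogeneousComponent d).rTensor A (z * ∑ j, MvPolynomial.X j ⊗ₜ[k] m j) =
          if 1 ≤ d then (MvPolynomial.homogeneousComponent (d - 1)).rTensor A z *
            ∑ j, MvPolynomial.X j ⊗ₜ[k] m j else 0 := by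
      intro z
      induction z with
      | zero => simp
      | tmul q r =>
        simp only [Finset.mul_sum, map_sum, Algebra.TensorProduct.tmul_mul_tmul, LinearMap.rTensor_tmul,
          homogeneousComponent_mul_homogeneous _ _ (MvPolynomial.isHomogeneous_X k _)]
        split_ifs <;> simp
      | add y z hy hz =>
        simp only [map_add, add_mul, hy, hz]
        split_ifs <;> simp
    rw [GLin.IsCoactAlg.coact_mul (k := k), hm, key,
      homogeneousComponent_mul_homogeneous _ _ (MvPolynomial.isHomogeneous_X k i)]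
    split_ifs
    · rw [hp, GLin.IsCoactAlg.coact_mul (k := k), hm]
    · simp

theorem isSemistableVec_iff [IsAlgClosed k] {α : A →ₗ[k] k} (hα : IsNormIntegral α)
    (hlin : GLin.IsLinear k A ι) (v : ι → k) :
    GLin.IsSemistableVec k A v ↔
      ¬ GLin.InOrbitClosure k A (GLin.vecPt k ι v) (GLin.vecPt k ι (fun _ => (0 : k))) := by
  have hzero : ∀ (F : MvPolynomial ι k) (d : ℕ), 0 < d → F.IsHomogeneous d →
      GLin.vecPt k ι (fun _ => (0 : k)) F = 0 := fun F d hd hF => by
    show MvPolynomial.aeval (0 : ι → k) F = 0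
    rw [MvPolynomial.aeval_zero, MvPolynomial.constantCoeff_eq, hF.coeff_eq_zero (by simp; omega), map_zero]
  constructor
  · intro hs hc
    refine hs fun F hF d hd hFd => ?_
    have := apply_eq_of_inOrbitClosure hc hF
    rw [hzero F d hd hFd] at this
    simpa [GLin.vecPt, MvPolynomial.aeval_eq_eval] using this.symm
  · intro hnc hnull
    have hne : ¬ ∃ z : MvPolynomial ι k →ₐ[k] k, GLin.InOrbitClosure k A (GLin.vecPt k ι v) z ∧
        GLin.InOrbitClosure k A (GLin.vecPt k ι (fun _ => (0 : k))) z := by
      rintro ⟨z, h1, h2⟩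
      have hz : z = GLin.vecPt k ι (fun _ => (0 : k)) := by
        refine MvPolynomial.algHom_ext fun i => ?_
        rw [show GLin.vecPt k ι (fun _ => (0 : k)) (MvPolynomial.X i) = 0 by simp]
        refine h2 ?_
        obtain ⟨m, hm⟩ := hlin i
        rw [RingHom.mem_ker, orbitHom_eq_slL, hm, map_sum]
        simp
      exact hnc (hz ▸ h1)
    refine (mt (comp_invariants_eq_iff hα _ _).1 hne) ?_
    ext ⟨F, hF⟩
    show GLin.vecPt k ι v F = GLin.vecPt k ι (fun _ => (0 : k)) F
    rw [← MvPolynomial.sum_homogeneousComponent F, map_sum, map_sum]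
    refine Finset.sum_congr rfl fun d _ => ?_
    rcases Nat.eq_zero_or_pos d with rfl | hd
    · simp
    · rw [hzero _ d hd (MvPolynomial.homogeneousComponent_isHomogeneous d F)]
      have hinv := map_mem_fixedPts (isComodHom_homogeneousComponent hlin d)
        (show F ∈ HopfRep.fixedPts k A _ from hF)
      simpa [GLin.vecPt, MvPolynomial.aeval_eq_eval] using
        hnull _ hinv d hd (MvPolynomial.homogeneousComponent_isHomogeneous d F)

end Linear

end Groth.Agent.LinRed
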