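import Groth.Agent.LinRed.InvariantRing
import Groth.Agent.LinRed.Separation
import Groth.Agent.Comod.Tame

/-!
# Descent of equivariant modules along free actions of linearly reductive groups
-/

set_option autoImplicit false
universe u v w w' w''

open TensorProduct

namespace Groth.Agent.LinRed

open Groth.Agent.Comod

section Untwist

variable {k : Type u} [CommRing k] {A : Type v} [CommRing A] [HopfAlgebra k A]
variable {V : Type w} [AddCommGroup V] [Module k V] [HopfRep.Comod k A V]

/-- `Σ (v₀)₀ ⊗ (v₀)₁ S(v₁) = v ⊗ 1` -/
theorem lift_coact_antipode (v : V) :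
    TensorProduct.lift (LinearMap.mk₂ k
      (fun u b => (LinearMap.mulRight k (HopfAlgebraStruct.antipode k b)).lTensor V
        (HopfRep.Comod.coact (k := k) (A := A) u))
      (fun u u' b => by simp) (fun c u b => by simp)
      (fun u b b' => by
        generalize HopfRep.Comod.coact (k := k) (A := A) u = y
        induction y with
        | zero => simp
        | tmul p q => simp [mul_add, tmul_add]
        | add y z hy hz => simp only [map_add] at hy hz ⊢; rw [hy, hz]; abel)
      (fun c u b => by
        generalize HopfRep.Comod.coact (k := k) (A := A) u = y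
        induction y with
        | zero => simp
        | tmul p q => simp [mul_smul_comm, TensorProduct.tmul_smul]
        | add y z hy hz => simp only [map_add, smul_add, hy, hz]))
      (HopfRep.Comod.coact (k := k) (A := A) v) = v ⊗ₜ[k] (1 : A) := by
  let G : V ⊗[k] (A ⊗[k] A) →ₗ[k] V ⊗[k] A :=
    (LinearMap.mul' k A ∘ₗ (HopfAlgebraStruct.antipode k).lTensor A).lTensor V
  have h1 : ∀ z : V ⊗[k] A, TensorProduct.lift (LinearMap.mk₂ k
      (fun u b => (LinearMap.mulRight k (HopfAlgebraStruct.antipode k b)).lTensor V
        (HopfRep.Comod.coact (k := k) (A := A) u))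
      (fun u u' b => by simp) (fun c u b => by simp)
      (fun u b b' => by
        generalize HopfRep.Comod.coact (k := k) (A := A) u = y
        induction y with
        | zero => simp
        | tmul p q => simp [mul_add, tmul_add]
        | add y z hy hz => simp only [map_add] at hy hz ⊢; rw [hy, hz]; abel)
      (fun c u b => by
        generalize HopfRep.Comod.coact (k := k) (A := A) u = y
        induction y with
        | zero => simp
        | tmul p q => simp [mul_smul_comm, TensorProduct.tmul_smul]
        | add y z hy hz => simp only [map_add, smul_add, hy, hz])) z =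
      G (TensorProduct.assoc k V A A ((HopfRep.Comod.coact (k := k) (A := A)).rTensor A z)) := by
    intro z
    induction z with
    | zero => simp
    | tmul u b =>
      simp only [TensorProduct.lift.tmul, LinearMap.mk₂_apply, LinearMap.rTensor_tmul]
      generalize HopfRep.Comod.coact (k := k) (A := A) u = y
      induction y with
      | zero => simp
      | tmul p q => simp [G]
      | add y z hy hz => simp only [map_add, add_tmul, hy, hz]
    | add y z hy hz => simp only [map_add, hy, hz]
  have hco := LinearMap.congr_fun (HopfRep.Comod.coassoc (k := k) (A := A) (V := V)) v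
  simp only [LinearMap.comp_apply, LinearEquiv.coe_coe] at hco
  rw [h1, hco]
  have h2 : ∀ z : V ⊗[k] A, G ((Coalgebra.comul (R := k)).lTensor V z) =
      slR (Coalgebra.counit (R := k)) z ⊗ₜ[k] (1 : A) := by
    intro z
    induction z with
    | zero => simp
    | tmul u b =>
      simp only [G, LinearMap.lTensor_tmul, LinearMap.comp_apply,
        HopfAlgebra.mul_antipode_lTensor_comul_apply, Algebra.algebraMap_eq_smul_one, slR_tmul,
        TensorProduct.smul_tmul]
    | add y z hy hz => simp only [map_add, add_tmul, hy, hz]
  rw [h2, ← actL_apply, actL_counit]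

end Untwist

section AvgHom

variable {k : Type u} [CommRing k] {A : Type v} [CommRing A] [HopfAlgebra k A]
variable {V : Type w} [AddCommGroup V] [Module k V] [HopfRep.Comod k A V]
variable {W : Type w'} [AddCommGroup W] [Module k W] [HopfRep.Comod k A W]
variable {U : Type w''} [AddCommGroup U] [Module k U] [HopfRep.Comod k A U]

/-- averaging of a linear map between two comodules -/
noncomputable def avgHom (α : A →ₗ[k] k) (r : V →ₗ[k] W) : V →ₗ[k] W :=
  TensorProduct.lift (LinearMap.mk₂ k (fun x b => actL (A := A) (intPair α b) (r x))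
    (fun x y b => by simp) (fun c x b => by simp)
    (fun x b b' => by simp [actL_map_add]) (fun c x b => by simp [actL_map_smul])) ∘ₗ
    HopfRep.Comod.coact (k := k) (A := A)

theorem avgHom_eq_avgAux (α : A →ₗ[k] k) (r : V →ₗ[k] V) :
    avgHom α r = avgAux α r ∘ₗ HopfRep.Comod.coact (k := k) (A := A) := rfl

theorem comp_avgHom (α : A →ₗ[k] k) (r : V →ₗ[k] W) {ψ : W →ₗ[k] U} (hψ : Hoch.IsComodHom A ψ) :
    ψ ∘ₗ avgHom α r = avgHom α (ψ ∘ₗ r) := by
  apply LinearMap.ext
  intro v
  simp only [avgHom, LinearMap.comp_apply]
  generalize HopfRep.Comod.coact (k := k) (A := A) v = z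
  induction z with
  | zero => simp
  | tmul x b => simp [IsComodHom.map_actL hψ]
  | add y z hy hz => simp only [map_add, hy, hz]

theorem avgHom_comp (α : A →ₗ[k] k) (r : V →ₗ[k] W) {ψ : U →ₗ[k] V} (hψ : Hoch.IsComodHom A ψ) :
    avgHom α r ∘ₗ ψ = avgHom α (r ∘ₗ ψ) := by
  apply LinearMap.ext
  intro u
  have h := LinearMap.congr_fun hψ u
  simp only [LinearMap.comp_apply] at h
  simp only [avgHom, LinearMap.comp_apply, h]
  generalize HopfRep.Comod.coact (k := k) (A := A) u = z
  induction z with
  | zero => simp
  | tmul x b => simp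
  | add y z hy hz => simp only [map_add, hy, hz]

theorem avgHom_add (α : A →ₗ[k] k) (r r' : V →ₗ[k] W) : avgHom α (r + r') = avgHom α r + avgHom α r' := by
  apply LinearMap.ext
  intro v
  simp only [avgHom, LinearMap.comp_apply, LinearMap.add_apply]
  generalize HopfRep.Comod.coact (k := k) (A := A) v = z
  induction z with
  | zero => simp
  | tmul x b => simp
  | add y z hy hz => rw [map_add, map_add, map_add, hy, hz]; abel

theorem avgHom_zero (α : A →ₗ[k] k) : avgHom (V := V) (W := W) α (0 : V →ₗ[k] W) = 0 := by
  have h := avgHom_add (V := V) (W := W) α 0 0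
  rw [add_zero] at h
  exact left_eq_add.1 h

theorem avgHom_sum (α : A →ₗ[k] k) {ι : Type*} (s : Finset ι) (r : ι → V →ₗ[k] W) :
    avgHom α (∑ i ∈ s, r i) = ∑ i ∈ s, avgHom α (r i) := by
  classical
  induction s using Finset.induction_on with
  | empty => simp [avgHom_zero]
  | insert a s ha ih => rw [Finset.sum_insert ha, Finset.sum_insert ha, avgHom_add, ih]

theorem avgHom_id {α : A →ₗ[k] k} (h1 : α 1 = 1) : avgHom α (LinearMap.id : V →ₗ[k] V) = LinearMap.id := by
  apply LinearMap.ext
  intro v
  rw [avgHom_eq_avgAux, LinearMap.comp_apply]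
  exact avg_apply_of_mem h1 (W := ⊤) (fun w _ => by
    refine (LinearMap.rTensor_surjective A (g := (⊤ : Submodule k V).subtype) fun x => ⟨⟨x, trivial⟩, rfl⟩) _)
    (fun w _ => rfl) Submodule.mem_top

theorem isComodHom_avgHom {α : A →ₗ[k] k} (hα : IsIntegral α) (r : V →ₗ[k] W) :
    Hoch.IsComodHom A (avgHom α r) := by
  letI : HopfRep.Comod k A (V × W) :=
    ComodTens.Comod.prod (inferInstance : HopfRep.Comod k A V) (inferInstance : HopfRep.Comod k A W)
  have hinl : Hoch.IsComodHom A (LinearMap.inl k V W) := by
    apply LinearMap.ext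
    intro x
    simp only [LinearMap.comp_apply, LinearMap.inl_apply]
    rw [ComodTens.prod_coact, map_zero, map_zero, add_zero]
  have hsnd : Hoch.IsComodHom A (LinearMap.snd k V W) := by
    apply LinearMap.ext
    rintro ⟨v, x⟩
    simp only [LinearMap.comp_apply, LinearMap.snd_apply]
    rw [ComodTens.prod_coact, map_add, ← LinearMap.rTensor_comp_apply, ← LinearMap.rTensor_comp_apply,
      LinearMap.snd_comp_inl, LinearMap.snd_comp_inr, LinearMap.rTensor_id, LinearMap.rTensor_zero]
    simp
  have e : avgHom α r = LinearMap.snd k V W ∘ₗ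
      (avgHom α (LinearMap.inr k V W ∘ₗ r ∘ₗ LinearMap.fst k V W)) ∘ₗ LinearMap.inl k V W := by
    rw [avgHom_comp α _ hinl, comp_avgHom α _ hsnd]
    congr 1
  rw [e]
  have h3 := isComodHom_avg hα (V := V × W) (LinearMap.inr k V W ∘ₗ r ∘ₗ LinearMap.fst k V W)
  rw [← avgHom_eq_avgAux] at h3
  unfold Hoch.IsComodHom at h3 hinl hsnd ⊢
  rw [← LinearMap.comp_assoc, hsnd, LinearMap.comp_assoc, ← LinearMap.comp_assoc _ _ (HopfRep.Comod.coact (k := k) (A := A) (V := V × W)),
    h3, LinearMap.comp_assoc, hinl, LinearMap.rTensor_comp, LinearMap.rTensor_comp]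
  simp only [LinearMap.comp_assoc]

end AvgHom

section AvgLinear

variable {k : Type u} [CommRing k] {A : Type v} [CommRing A] [HopfAlgebra k A]
variable {R : Type w} [CommRing R] [Algebra k R] [HopfRep.Comod k A R]
variable {M : Type w'} [AddCommGroup M] [Module k M] [Module R M] [IsScalarTower k R M]
  [HopfRep.Comod k A M] [TameAct.IsHopfMod k A R M]
variable {N : Type w''} [AddCommGroup N] [Module k N] [Module R N] [IsScalarTower k R N]
  [HopfRep.Comod k A N] [TameAct.IsHopfMod k A R N]

/-- averaging keeps linearity over a ring acting compatibly -/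
theorem avgHom_smul (α : A →ₗ[k] k) (r : M →ₗ[R] N) (a : R) (m : M) :
    avgHom (A := A) α (r.restrictScalars k) (a • m) = a • avgHom (A := A) α (r.restrictScalars k) m := by
  have h0 : ∀ (u : M) (b : A), actL (A := A) (intPair α b) (r.restrictScalars k u) =
      slR (α ∘ₗ HopfAlgebraStruct.antipode k) ((LinearMap.mulRight k (HopfAlgebraStruct.antipode k b)).lTensor N
        (HopfRep.Comod.coact (k := k) (A := A) (r u))) := by
    intro u b
    simp only [actL_apply, LinearMap.restrictScalars_apply]
    generalize HopfRep.Comod.coact (k := k) (A := A) (r u) = y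
    induction y with
    | zero => simp
    | tmul s t =>
      simp only [slR_tmul, intPair_apply, LinearMap.lTensor_tmul, LinearMap.mulRight_apply, LinearMap.comp_apply,
        ← HopfAlgebra.antipodeAlgHom_apply, map_mul]
      simp only [HopfAlgebra.antipodeAlgHom_apply, Groth.Agent.HopfLib.antipode_antipode]
    | add y z hy hz => simp only [map_add, hy, hz]
  -- the untwisted product
  let Φ : R ⊗[k] A →ₗ[k] R ⊗[k] A := TensorProduct.lift (LinearMap.mk₂ k
      (fun u b => (LinearMap.mulRight k (HopfAlgebraStruct.antipode k b)).lTensor R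
        (HopfRep.Comod.coact (k := k) (A := A) u))
      (fun u u' b => by simp) (fun c u b => by simp)
      (fun u b b' => by
        generalize HopfRep.Comod.coact (k := k) (A := A) u = y
        induction y with
        | zero => simp
        | tmul p q => simp [mul_add, tmul_add]
        | add y z hy hz => simp only [map_add] at hy hz ⊢; rw [hy, hz]; abel)
      (fun c u b => by
        generalize HopfRep.Comod.coact (k := k) (A := A) u = y
        induction y with
        | zero => simp
        | tmul p q => simp [mul_smul_comm, TensorProduct.tmul_smul]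
        | add y z hy hz => simp only [map_add, smul_add, hy, hz]))
  let G : M ⊗[k] A →ₗ[k] N ⊗[k] A := TensorProduct.lift (LinearMap.mk₂ k
      (fun u b => (LinearMap.mulRight k (HopfAlgebraStruct.antipode k b)).lTensor N
        (HopfRep.Comod.coact (k := k) (A := A) (r u)))
      (fun u u' b => by simp) (fun c u b => by simp)
      (fun u b b' => by
        generalize HopfRep.Comod.coact (k := k) (A := A) (r u) = y
        induction y with
        | zero => simp
        | tmul p q => simp [mul_add, tmul_add]
        | add y z hy hz => simp only [map_add] at hy hz ⊢; rw [hy, hz]; abel)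
      (fun c u b => by
        generalize HopfRep.Comod.coact (k := k) (A := A) (r u) = y
        induction y with
        | zero => simp
        | tmul p q => simp [mul_smul_comm, TensorProduct.tmul_smul]
        | add y z hy hz => simp only [map_add, smul_add, hy, hz]))
  have hG : ∀ u : M, avgHom (A := A) α (r.restrictScalars k) u =
      slR (α ∘ₗ HopfAlgebraStruct.antipode k) (G (HopfRep.Comod.coact (k := k) (A := A) u)) := by
    intro u
    simp only [avgHom, LinearMap.comp_apply]
    generalize HopfRep.Comod.coact (k := k) (A := A) u = z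
    induction z with
    | zero => simp
    | tmul u b => rw [TensorProduct.lift.tmul, LinearMap.mk₂_apply, h0]; rfl
    | add y z hy hz => simp only [map_add, hy, hz]
  have hmul : ∀ (x : R ⊗[k] A) (z : M ⊗[k] A),
      G (TameAct.hmSMul k A R M x z) = TameAct.hmSMul k A R N (Φ x) (G z) := by
    intro x z
    induction x with
    | zero => simp
    | tmul p c =>
      induction z with
      | zero => simp
      | tmul u b =>
        simp only [TameAct.hmSMul_tmul, G, Φ, TensorProduct.lift.tmul, LinearMap.mk₂_apply, map_smul,
          TameAct.IsHopfMod.coact_smul, ← HopfAlgebra.antipodeAlgHom_apply, map_mul]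
        generalize HopfRep.Comod.coact (k := k) (A := A) p = y
        generalize HopfRep.Comod.coact (k := k) (A := A) (r u) = z
        induction y with
        | zero => simp
        | tmul s t =>
          induction z with
          | zero => simp
          | tmul s' t' =>
            simp only [LinearMap.lTensor_tmul, LinearMap.mulRight_apply, TameAct.hmSMul_tmul]
            congr 1
            ring
          | add y z hy hz => simp only [map_add, hy, hz]
        | add y z hy hz => simp only [map_add, LinearMap.add_apply, hy, hz]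
      | add y z hy hz => simp only [map_add, hy, hz]
    | add y z hy hz => simp only [map_add, LinearMap.add_apply, hy, hz]
  rw [hG, hG, TameAct.IsHopfMod.coact_smul, hmul,
    show Φ (HopfRep.Comod.coact (k := k) (A := A) a) = a ⊗ₜ[k] (1 : A) from lift_coact_antipode a]
  generalize G (HopfRep.Comod.coact (k := k) (A := A) m) = z
  induction z with
  | zero => simp
  | tmul p q =>
    simp only [TameAct.hmSMul_tmul, one_mul, slR_tmul]
    exact smul_comm _ _ _
  | add y z hy hz => simp only [map_add, smul_add, hy, hz]

end AvgLinear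

section Coords

variable {S : Type u} [CommRing S] {R : Type v} [CommRing R] [Algebra S R]
variable {M : Type w} [AddCommGroup M] [Module R M] [Module S M] [IsScalarTower S R M]

/-- A submodule over a subring that carries coordinates of the whole module descends the module. -/
theorem descent_of_coords (hinj : Function.Injective (algebraMap S R)) {ι : Type w'} [Fintype ι]
    (N : Submodule S M) (e : ι → N) (σ : ι → M →ₗ[R] R)
    (hsum : ∀ m : M, ∑ i, σ i m • (e i : M) = m)
    (hinv : ∀ (i : ι) (n : N), ∃ c : S, algebraMap S R c = σ i (n : M)) :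
    Module.Finite S N ∧ Module.Projective S N ∧
      Function.Bijective (TensorProduct.lift
        (((Algebra.lsmul S S M : R →ₐ[S] Module.End S M).toLinearMap).compl₂ N.subtype) :
          R ⊗[S] N → M) := by
  classical
  choose c hc using hinv
  let κ : N →ₗ[S] (ι → S) :=
    { toFun := fun n i => c i n
      map_add' := fun x y => by
        funext i
        apply hinj
        simp only [Pi.add_apply, map_add, hc, Submodule.coe_add]
      map_smul' := fun a x => by
        funext i
        apply hinj
        simp only [Pi.smul_apply, RingHom.id_apply, smul_eq_mul, map_mul, hc, Submodule.coe_smul]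
        rw [← algebraMap_smul R a (x : M), map_smul, smul_eq_mul] }
  let p : (ι → S) →ₗ[S] N := Fintype.linearCombination S e
  have hp : ∀ n : N, p (κ n) = n := by
    intro n
    apply Subtype.ext
    simp only [p, Fintype.linearCombination_apply, AddSubmonoidClass.coe_finsetSum, Submodule.coe_smul]
    conv_rhs => rw [← hsum (n : M)]
    refine Finset.sum_congr rfl fun i _ => ?_
    rw [← algebraMap_smul R (κ n i) (e i : M)]
    show algebraMap S R (c i n) • (e i : M) = _
    rw [hc]
  refine ⟨Module.Finite.of_surjective p fun n => ⟨κ n, hp n⟩,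
    Module.Projective.of_split κ p (LinearMap.ext hp), ?_, ?_⟩
  · let inv : M →ₗ[S] R ⊗[S] N :=
      { toFun := fun m => ∑ i, σ i m ⊗ₜ[S] e i
        map_add' := fun a b => by simp only [map_add, add_tmul, Finset.sum_add_distrib]
        map_smul' := fun a m => by
          simp only [RingHom.id_apply, Finset.smul_sum, TensorProduct.smul_tmul']
          refine Finset.sum_congr rfl fun i _ => ?_
          rw [← algebraMap_smul R a m, map_smul, smul_eq_mul, Algebra.smul_def] }
    have key : ∀ z, inv (TensorProduct.lift
        (((Algebra.lsmul S S M : R →ₐ[S] Module.End S M).toLinearMap).compl₂ N.subtype) z) = z := by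
      intro z
      induction z with
      | zero => simp
      | tmul a n =>
        show ∑ i, σ i (a • (n : M)) ⊗ₜ[S] e i = _
        conv_rhs => rw [← hp n]
        simp only [p, Fintype.linearCombination_apply, TensorProduct.tmul_sum, TensorProduct.tmul_smul,
          TensorProduct.smul_tmul']
        refine Finset.sum_congr rfl fun i _ => ?_
        rw [map_smul, smul_eq_mul, Algebra.smul_def, mul_comm]
        show _ = (algebraMap S R (c i n) * a) ⊗ₜ[S] e i
        rw [hc]
      | add y z hy hz => simp only [map_add, hy, hz]
    intro x y hxy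
    rw [← key x, ← key y]
    exact congrArg inv hxy
  · intro m
    refine ⟨∑ i, σ i m ⊗ₜ[S] e i, ?_⟩
    rw [map_sum]
    exact hsum m

end Coords

section Fibre

variable {k : Type u} [Field k] {A : Type v} [CommRing A] [HopfAlgebra k A]
variable {R : Type w} [CommRing R] [Algebra k R] [HopfRep.Comod k A R] [GLin.IsCoactAlg k A R]
variable {M : Type w'} [AddCommGroup M] [Module k M] [Module R M] [IsScalarTower k R M]
  [HopfRep.Comod k A M] [TameAct.IsHopfMod k A R M]

/-- along a free orbit, invariant vectors span the fibre -/
theorem exists_invariant_sub_mem {α : A →ₗ[k] k} (hα : IsNormIntegral α) (x : R →ₐ[k] k)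
    (hx : Function.Surjective (GLin.orbitHom k A x)) (m : M) :
    ∃ v ∈ HopfRep.fixedPts k A M, m - v ∈ (RingHom.ker x) • (⊤ : Submodule R M) := by
  obtain ⟨P, hP⟩ : ∃ P : Submodule k M, ∀ u, u ∈ P ↔ u ∈ (RingHom.ker x) • (⊤ : Submodule R M) :=
    ⟨((RingHom.ker x) • (⊤ : Submodule R M)).restrictScalars k, fun u => Iff.rfl⟩
  let Ψ : M →ₗ[k] (M ⧸ P) ⊗[k] A := P.mkQ.rTensor A ∘ₗ HopfRep.Comod.coact (k := k) (A := A)
  have hsm : ∀ (f : R) (u : M), P.mkQ (f • u) = x f • P.mkQ u := by
    intro f u
    refine Eq.trans ((Submodule.Quotient.eq P).2 ((hP _).2 ?_)) (map_smul P.mkQ (x f) u)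
    rw [← algebraMap_smul R (x f) u, ← sub_smul]
    exact Submodule.smul_mem_smul (by simp [RingHom.mem_ker]) Submodule.mem_top
  have hadd : ∀ (a b : A) (T : (M ⧸ P) ⊗[k] A),
      (LinearMap.mulLeft k (a + b)).lTensor (M ⧸ P) T =
        (LinearMap.mulLeft k a).lTensor (M ⧸ P) T + (LinearMap.mulLeft k b).lTensor (M ⧸ P) T := by
    intro a b T
    rw [show LinearMap.mulLeft k (a + b) = LinearMap.mulLeft k a + LinearMap.mulLeft k b from
      LinearMap.ext fun c => add_mul a b c, LinearMap.lTensor_add, LinearMap.add_apply]
  have hsemi : ∀ (f : R) (u : M),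
      Ψ (f • u) = (LinearMap.mulLeft k (GLin.orbitHom k A x f)).lTensor (M ⧸ P) (Ψ u) := by
    intro f u
    show P.mkQ.rTensor A (HopfRep.Comod.coact (k := k) (A := A) (f • u)) = _
    rw [TameAct.IsHopfMod.coact_smul, orbitHom_eq_slL]
    simp only [Ψ, LinearMap.comp_apply]
    generalize HopfRep.Comod.coact (k := k) (A := A) f = y
    generalize HopfRep.Comod.coact (k := k) (A := A) u = z
    induction y with
    | zero => simp
    | tmul p c =>
      induction z with
      | zero => simp
      | tmul s t =>
        simp only [TameAct.hmSMul_tmul, LinearMap.rTensor_tmul, hsm, slL_tmul, AlgHom.toLinearMap_apply,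
          LinearMap.lTensor_tmul, LinearMap.mulLeft_apply, smul_mul_assoc, TensorProduct.tmul_smul,
          TensorProduct.smul_tmul']
      | add y z hy hz => simp only [map_add, hy, hz]
    | add y z hy hz => simp only [map_add, LinearMap.add_apply, hy, hz, hadd]
  have hΨ : Hoch.IsComodHom A ((Hoch.Ind.equiv k A (M ⧸ P)).toLinearMap ∘ₗ Ψ) := by
    apply LinearMap.ext
    intro u
    show Hoch.Ind.coactAux k A (M ⧸ P) (P.mkQ.rTensor A (HopfRep.Comod.coact (k := k) (A := A) u)) =
      Ψ.rTensor A (HopfRep.Comod.coact (k := k) (A := A) u)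
    have hco := LinearMap.congr_fun (HopfRep.Comod.coassoc (k := k) (A := A) (V := M)) u
    simp only [LinearMap.comp_apply, LinearEquiv.coe_coe] at hco
    rw [show Ψ.rTensor A (HopfRep.Comod.coact (k := k) (A := A) u) = (P.mkQ.rTensor A).rTensor A
      ((HopfRep.Comod.coact (k := k) (A := A)).rTensor A (HopfRep.Comod.coact (k := k) (A := A) u)) by
        rw [← LinearMap.rTensor_comp_apply], ← (TensorProduct.assoc k M A A).symm_apply_apply
      ((HopfRep.Comod.coact (k := k) (A := A)).rTensor A _), hco]
    generalize HopfRep.Comod.coact (k := k) (A := A) u = z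
    induction z with
    | zero => simp
    | tmul p q =>
      rw [LinearMap.rTensor_tmul, Hoch.Ind.coactAux_tmul, LinearMap.lTensor_tmul]
      generalize Coalgebra.comul (R := k) q = y
      induction y with
      | zero => simp
      | tmul s t => simp
      | add y z hy hz => simp only [tmul_add, map_add, hy, hz]
    | add y z hy hz => simp only [map_add, hy, hz]
  -- the image is stable under multiplication and contains the constants
  have hsurj : Function.Surjective ((Hoch.Ind.equiv k A (M ⧸ P)).toLinearMap ∘ₗ Ψ) := by
    have hstable : ∀ (a : A), ∀ z ∈ LinearMap.range Ψ,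
        (LinearMap.mulLeft k a).lTensor (M ⧸ P) z ∈ LinearMap.range Ψ := by
      rintro a _ ⟨u, rfl⟩
      obtain ⟨f, rfl⟩ := hx a
      exact ⟨f • u, hsemi f u⟩
    have hone : ∀ u : M, P.mkQ u ⊗ₜ[k] (1 : A) ∈ LinearMap.range Ψ := by
      intro u
      have h := congrArg (P.mkQ.rTensor A) (lift_coact_antipode (k := k) (A := A) u)
      rw [LinearMap.rTensor_tmul] at h
      rw [← h]
      generalize HopfRep.Comod.coact (k := k) (A := A) u = z
      induction z with
      | zero => simp
      | tmul p b =>
        rw [TensorProduct.lift.tmul, LinearMap.mk₂_apply]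
        have : ∀ y : M ⊗[k] A, P.mkQ.rTensor A ((LinearMap.mulRight k (HopfAlgebraStruct.antipode k b)).lTensor M y) =
            (LinearMap.mulLeft k (HopfAlgebraStruct.antipode k b)).lTensor (M ⧸ P) (P.mkQ.rTensor A y) := by
          intro y
          induction y with
          | zero => simp
          | tmul s t => simp [mul_comm t]
          | add y z hy hz => simp only [map_add, hy, hz]
        rw [this]
        exact hstable _ _ ⟨p, rfl⟩
      | add y z hy hz => simp only [map_add]; exact add_mem hy hz
    intro z
    obtain ⟨z, rfl⟩ := (Hoch.Ind.equiv k A (M ⧸ P)).surjective z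
    suffices z ∈ LinearMap.range Ψ by
      obtain ⟨u, rfl⟩ := this
      exact ⟨u, rfl⟩
    induction z with
    | zero => exact zero_mem _
    | tmul q a =>
      obtain ⟨u, rfl⟩ := P.mkQ_surjective q
      have h := hstable a _ (hone u)
      rwa [LinearMap.lTensor_tmul, LinearMap.mulLeft_apply, mul_one] at h
    | add y z hy hz => exact add_mem hy hz
  have hw : Hoch.Ind.equiv k A (M ⧸ P) (P.mkQ m ⊗ₜ[k] (1 : A)) ∈
      HopfRep.fixedPts k A (Hoch.Ind k A (M ⧸ P)) := by
    show HopfRep.Comod.coact (k := k) (A := A) _ = _
    rw [Hoch.Ind.coact_equiv_tmul, Bialgebra.comul_one, Algebra.TensorProduct.one_def,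
      TensorProduct.assoc_symm_tmul]
    rfl
  obtain ⟨v, hv, hv'⟩ := exists_fixedPts_map_eq hα hΨ hsurj hw
  refine ⟨v, hv, ?_⟩
  have h1 : Ψ v = P.mkQ m ⊗ₜ[k] (1 : A) := hv'
  have h2 : Ψ v = P.mkQ v ⊗ₜ[k] (1 : A) := by
    show P.mkQ.rTensor A (HopfRep.Comod.coact (k := k) (A := A) v) = _
    rw [show HopfRep.Comod.coact (k := k) (A := A) v = v ⊗ₜ[k] (1 : A) from hv, LinearMap.rTensor_tmul]
  have h3 := congrArg (slR (Coalgebra.counit (R := k))) (h1.symm.trans h2)
  rw [slR_tmul, slR_tmul, Bialgebra.counit_one, one_smul, one_smul] at h3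
  exact (hP _).1 ((Submodule.Quotient.eq P).1 h3)

variable [IsAlgClosed k] [Algebra.FiniteType k R] [Module.Finite R M]

/-- for a free action the invariants generate every equivariant finite module -/
theorem span_fixedPts_eq_top {α : A →ₗ[k] k} (hα : IsNormIntegral α)
    (hfree : ∀ x : R →ₐ[k] k, Function.Surjective (GLin.orbitHom k A x)) :
    Submodule.span R (HopfRep.fixedPts k A M : Set M) = ⊤ := by
  set L := Submodule.span R (HopfRep.fixedPts k A M : Set M)
  by_contra hne
  obtain ⟨q, hq⟩ : ∃ q : M ⧸ L, q ≠ 0 := by
    by_contra hall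
    simp only [not_exists, not_not] at hall
    exact hne (eq_top_iff.2 fun m _ => (Submodule.Quotient.mk_eq_zero L).1 (hall _))
  have hann : (⊤ : Submodule R (M ⧸ L)).annihilator ≠ ⊤ := fun h => hq (by
    have h1 : (1 : R) ∈ (⊤ : Submodule R (M ⧸ L)).annihilator := h ▸ trivial
    simpa using Submodule.mem_annihilator.1 h1 q trivial)
  obtain ⟨x, hx⟩ := exists_point_of_ne_top (k := k) _ hann
  have hle : (⊤ : Submodule R (M ⧸ L)) ≤ RingHom.ker x • (⊤ : Submodule R (M ⧸ L)) := by
    rintro z -
    obtain ⟨m, rfl⟩ := L.mkQ_surjective z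
    obtain ⟨v, hv, hv'⟩ := exists_invariant_sub_mem hα x (hfree x) m
    have h1 : L.mkQ m = L.mkQ (m - v) := by
      rw [map_sub, Submodule.mkQ_apply, Submodule.mkQ_apply, (Submodule.Quotient.mk_eq_zero L).2
        (Submodule.subset_span hv), sub_zero]
    have h2 : L.mkQ (m - v) ∈ ((RingHom.ker x • (⊤ : Submodule R M))).map L.mkQ := Submodule.mem_map_of_mem hv'
    rw [Submodule.map_smul'', Submodule.map_top, Submodule.range_mkQ] at h2
    rwa [h1]
  obtain ⟨r, hr1, hr⟩ := Submodule.exists_sub_one_mem_and_smul_eq_zero_of_fg_of_le_smul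
    (RingHom.ker x) (⊤ : Submodule R (M ⧸ L)) Module.Finite.fg_top hle
  have hr0 : x r = 0 := hx (Submodule.mem_annihilator.2 hr)
  rw [RingHom.mem_ker, map_sub, map_one, hr0, zero_sub, neg_eq_zero] at hr1
  exact one_ne_zero hr1

end Fibre

end Groth.Agent.LinRed
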