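import Groth.Agent.LinRed.Descent

/-!
# Equivariant modules along a free closed orbit
-/

set_option autoImplicit false
universe u v w w'

open TensorProduct

namespace Groth.Agent.LinRed

open Groth.Agent.Comod

section FreeOrbit

variable {k : Type u} [Field k] {A : Type v} [CommRing A] [HopfAlgebra k A]
variable {R : Type w} [CommRing R] [Algebra k R] [HopfRep.Comod k A R] [GLin.IsCoactAlg k A R]

theorem rTensor_orbitHom_coact (x : R →ₐ[k] k) (f : R) :
    (GLin.orbitHom k A x).toLinearMap.rTensor A (HopfRep.Comod.coact (k := k) (A := A) f) =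
      Coalgebra.comul (R := k) (GLin.orbitHom k A x f) :=
  ext_slR fun φ => by
    rw [slR_rTensor, ← actL_apply, AlgHom.toLinearMap_apply, orbitHom_actL]

theorem counit_orbitHom (x : R →ₐ[k] k) (f : R) :
    Coalgebra.counit (R := k) (GLin.orbitHom k A x f) = x f := by
  have h : ∀ z : R ⊗[k] A, Coalgebra.counit (R := k) (slL x.toLinearMap z) =
      x (slR (Coalgebra.counit (R := k)) z) := by
    intro z
    induction z with
    | zero => simp
    | tmul p q => simp [mul_comm]
    | add y z hy hz => simp only [map_add, hy, hz]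
  rw [orbitHom_eq_slL, h, ← actL_apply, actL_counit]

theorem isSubcomod_ker_orbitHom (x : R →ₐ[k] k) :
    HopfRep.IsSubcomod (k := k) (A := A) ((RingHom.ker (GLin.orbitHom k A x)).restrictScalars k) :=
  isSubcomod_iff.2 fun φ f hf => by
    show GLin.orbitHom k A x (actL φ f) = 0
    rw [orbitHom_actL, show GLin.orbitHom k A x f = 0 from hf, map_zero, map_zero]

variable {M : Type w'} [AddCommGroup M] [Module k M] [Module R M] [IsScalarTower k R M]
  [HopfRep.Comod k A M] [TameAct.IsHopfMod k A R M]

/-- Along a free closed orbit, an equivariant finite module is free on invariant vectors. -/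
theorem exists_fixedPts_basis_mod_orbit [Module.Finite R M] {α : A →ₗ[k] k} (hα : IsNormIntegral α)
    (x : R →ₐ[k] k) (hx : Function.Surjective (GLin.orbitHom k A x))
    (I : Ideal R) (hI : I = RingHom.ker (GLin.orbitHom k A x)) :
    ∃ (r : ℕ) (f : Fin r → M), (∀ i, f i ∈ HopfRep.fixedPts k A M) ∧
      (∀ a : Fin r → R, ∑ i, a i • f i ∈ I • (⊤ : Submodule R M) → ∀ i, a i ∈ I) ∧
      Submodule.span R (Set.range f) ⊔ I • (⊤ : Submodule R M) = ⊤ := by
  classical
  obtain ⟨P, hP⟩ : ∃ P : Submodule k M, ∀ u, u ∈ P ↔ u ∈ (RingHom.ker x) • (⊤ : Submodule R M) :=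
    ⟨((RingHom.ker x) • (⊤ : Submodule R M)).restrictScalars k, fun u => Iff.rfl⟩
  have hsm : ∀ (a : R) (u : M), P.mkQ (a • u) = x a • P.mkQ u := by
    intro a u
    refine Eq.trans ((Submodule.Quotient.eq P).2 ((hP _).2 ?_)) (map_smul P.mkQ (x a) u)
    rw [← algebraMap_smul R (x a) u, ← sub_smul]
    exact Submodule.smul_mem_smul (by simp [RingHom.mem_ker]) Submodule.mem_top
  obtain ⟨s, hs⟩ := (Module.finite_def (R := R) (M := M)).1 inferInstance
  haveI : Module.Finite k (M ⧸ P) := by
    refine Module.finite_def.2 ⟨s.image P.mkQ, eq_top_iff.2 ?_⟩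
    rintro z -
    obtain ⟨m, rfl⟩ := P.mkQ_surjective z
    have hm : m ∈ Submodule.span R (↑s : Set M) := hs ▸ Submodule.mem_top
    induction hm using Submodule.span_induction with
    | mem y hy => exact Submodule.subset_span (by simpa using ⟨y, hy, rfl⟩)
    | zero => simp
    | add y z _ _ hy hz => rw [map_add]; exact add_mem hy hz
    | smul a y _ hy => rw [hsm]; exact Submodule.smul_mem _ _ hy
  let b := Module.finBasis k (M ⧸ P)
  have hlift : ∀ i, ∃ v ∈ HopfRep.fixedPts k A M, P.mkQ v = b i := by
    intro i
    obtain ⟨m, hm⟩ := P.mkQ_surjective (b i)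
    obtain ⟨v, hv, hv'⟩ := exists_invariant_sub_mem hα x hx m
    exact ⟨v, hv, ((Submodule.Quotient.eq P).2 ((hP _).2 hv')).symm.trans hm⟩
  choose f hf hfb using hlift
  have hI' : ∀ a ∈ I, x a = 0 := fun a ha => by
    rw [← counit_orbitHom (A := A) x a, show GLin.orbitHom k A x a = 0 from (hI ▸ ha : a ∈ RingHom.ker _),
      map_zero]
  refine ⟨_, f, hf, fun a ha i => ?_, ?_⟩
  · let ξ : M →ₗ[k] k := b.coord i ∘ₗ P.mkQ
    let G : M →ₗ[k] A := slL ξ ∘ₗ HopfRep.Comod.coact (k := k) (A := A)
    have hξ : ∀ (c : R) (u : M), ξ (c • u) = x c * ξ u := fun c u => by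
      simp only [ξ, LinearMap.comp_apply, hsm, map_smul, smul_eq_mul]
    have hG : ∀ (c : R) (u : M), G (c • u) = GLin.orbitHom k A x c * G u := by
      intro c u
      simp only [G, LinearMap.comp_apply, TameAct.IsHopfMod.coact_smul (k := k) (A := A), orbitHom_eq_slL]
      generalize HopfRep.Comod.coact (k := k) (A := A) c = y
      generalize HopfRep.Comod.coact (k := k) (A := A) u = z
      induction y with
      | zero => simp
      | tmul p q =>
        induction z with
        | zero => simp
        | tmul p' q' =>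
          simp only [TameAct.hmSMul_tmul, slL_tmul, hξ, AlgHom.toLinearMap_apply, smul_mul_smul_comm]
        | add y z hy hz => simp only [map_add, mul_add, hy, hz]
      | add y z hy hz => simp only [map_add, LinearMap.add_apply, add_mul, hy, hz]
    have h0 : G (∑ l, a l • f l) = 0 := by
      refine Submodule.smul_induction_on ha (fun c hc u _ => ?_) fun y z hy hz => by rw [map_add, hy, hz, add_zero]
      rw [hG, show GLin.orbitHom k A x c = 0 from (hI ▸ hc : c ∈ RingHom.ker _), zero_mul]
    have h1 : ∀ l, G (f l) = (if i = l then (1 : k) else 0) • (1 : A) := by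
      intro l
      simp only [G, LinearMap.comp_apply]
      rw [show HopfRep.Comod.coact (k := k) (A := A) (f l) = f l ⊗ₜ[k] (1 : A) from hf l, slL_tmul]
      congr 1
      simp only [ξ, LinearMap.comp_apply, hfb, Module.Basis.coord_apply, Module.Basis.repr_self,
        Finsupp.single_apply, eq_comm]
    simp only [map_sum, hG, h1, ite_smul, one_smul, zero_smul, mul_ite, mul_one, mul_zero,
      Finset.sum_ite_eq, Finset.mem_univ, if_true] at h0
    rw [hI]
    exact h0
  · obtain ⟨j, hj⟩ := (GLin.orbitHom k A x).toLinearMap.exists_rightInverse_of_surjective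
      (LinearMap.range_eq_top.2 hx)
    replace hj : ∀ c, GLin.orbitHom k A x (j c) = c := fun c => LinearMap.congr_fun hj c
    let N : Submodule R M := I • ⊤
    have hcongr : ∀ (c d : R) (q : M ⧸ N), GLin.orbitHom k A x c = GLin.orbitHom k A x d → c • q = d • q := by
      intro c d q hcd
      obtain ⟨u, rfl⟩ := N.mkQ_surjective q
      rw [← map_smul, ← map_smul]
      refine (Submodule.Quotient.eq N).2 ?_
      rw [← sub_smul]
      refine Submodule.smul_mem_smul ?_ Submodule.mem_top
      rw [hI, RingHom.mem_ker, map_sub, hcd, sub_self]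
    let Φ : M ⊗[k] A →ₗ[k] M ⧸ N := TensorProduct.lift (LinearMap.mk₂ k
      (fun u c => j (HopfAlgebraStruct.antipode k c) • N.mkQ u)
      (fun u u' c => by simp only [map_add, smul_add])
      (fun e u c => by simp only [LinearMap.map_smul_of_tower, smul_comm e])
      (fun u c c' => by simp only [map_add, add_smul])
      (fun e u c => by simp only [map_smul, smul_assoc]))
    let Pr : M →ₗ[k] M ⧸ N := Φ ∘ₗ HopfRep.Comod.coact (k := k) (A := A)
    let Θ : R ⊗[k] A →ₗ[k] R :=
      LinearMap.mul' k R ∘ₗ (j ∘ₗ HopfAlgebraStruct.antipode k).lTensor R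
    have hΦ : ∀ (y : R ⊗[k] A) (z : M ⊗[k] A), Φ (TameAct.hmSMul k A R M y z) = Θ y • Φ z := by
      intro y z
      induction y with
      | zero => simp
      | tmul p c =>
        induction z with
        | zero => simp
        | tmul u d =>
          simp only [TameAct.hmSMul_tmul, Φ, Θ, TensorProduct.lift.tmul, LinearMap.mk₂_apply, map_smul,
            LinearMap.comp_apply, LinearMap.lTensor_tmul, LinearMap.mul'_apply, smul_smul]
          apply hcongr
          simp only [map_mul, hj, ← HopfAlgebra.antipodeAlgHom_apply]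
          ring
        | add y z hy hz => simp only [map_add, smul_add, hy, hz]
      | add y z hy hz => simp only [map_add, LinearMap.add_apply, add_smul, hy, hz]
    have hΘ : ∀ c : R, GLin.orbitHom k A x (Θ (HopfRep.Comod.coact (k := k) (A := A) c)) =
        GLin.orbitHom k A x (algebraMap k R (x c)) := by
      intro c
      have h : ∀ y : R ⊗[k] A, GLin.orbitHom k A x (Θ y) = LinearMap.mul' k A
          ((HopfAlgebraStruct.antipode k).lTensor A ((GLin.orbitHom k A x).toLinearMap.rTensor A y)) := by
        intro y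
        induction y with
        | zero => simp
        | tmul p q => simp [Θ, hj]
        | add y z hy hz => simp only [map_add, hy, hz]
      rw [h, rTensor_orbitHom_coact, HopfAlgebra.mul_antipode_lTensor_comul_apply, counit_orbitHom,
        AlgHom.commutes]
    have hPr : ∀ (c : R) (u : M), Pr (c • u) = x c • Pr u := by
      intro c u
      simp only [Pr, LinearMap.comp_apply, TameAct.IsHopfMod.coact_smul (k := k) (A := A), hΦ]
      rw [hcongr _ _ _ (hΘ c), algebraMap_smul]
    have hPr0 : ∀ u ∈ P, Pr u = 0 := fun u hu =>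
      Submodule.smul_induction_on ((hP u).1 hu)
        (fun c hc v _ => by rw [hPr, show x c = 0 from hc, zero_smul])
        fun y z hy hz => by rw [map_add, hy, hz, add_zero]
    have hPrf : ∀ l, Pr (f l) = N.mkQ (f l) := by
      intro l
      simp only [Pr, LinearMap.comp_apply,
        show HopfRep.Comod.coact (k := k) (A := A) (f l) = f l ⊗ₜ[k] (1 : A) from hf l,
        Φ, TensorProduct.lift.tmul, LinearMap.mk₂_apply, HopfAlgebra.antipode_one]
      conv_rhs => rw [← one_smul R (N.mkQ (f l))]
      exact hcongr _ _ _ (by rw [hj, map_one])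
    have hspan : ∀ u, Pr u ∈ (Submodule.span R (Set.range f)).map N.mkQ := by
      intro u
      have h : u - ∑ l, b.repr (P.mkQ u) l • f l ∈ P := by
        refine (Submodule.Quotient.mk_eq_zero P).1 ?_
        show P.mkQ (u - ∑ l, b.repr (P.mkQ u) l • f l) = 0
        simp only [map_sub, map_sum, map_smul, hfb, b.sum_repr, sub_self]
      have h' := hPr0 _ h
      rw [map_sub, sub_eq_zero] at h'
      rw [h', map_sum]
      refine Submodule.sum_mem _ fun l _ => ?_
      rw [map_smul, hPrf, ← algebraMap_smul R (b.repr (P.mkQ u) l)]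
      exact Submodule.smul_mem _ _ (Submodule.mem_map_of_mem (Submodule.subset_span ⟨l, rfl⟩))
    let K : M ⊗[k] A →ₗ[k] M ⧸ N := TensorProduct.lift (LinearMap.mk₂ k
      (fun u c => j c • Pr u) (fun u u' c => by simp only [map_add, smul_add])
      (fun e u c => by simp only [map_smul, smul_comm e]) (fun u c c' => by simp only [map_add, add_smul])
      (fun e u c => by simp only [map_smul, smul_assoc]))
    let K' : M ⊗[k] (A ⊗[k] A) →ₗ[k] M ⧸ N := TensorProduct.lift (LinearMap.mk₂ k
      (fun u w => j (LinearMap.mul' k A ((HopfAlgebraStruct.antipode k).rTensor A w)) • N.mkQ u)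
      (fun u u' c => by simp only [map_add, smul_add])
      (fun e u c => by simp only [LinearMap.map_smul_of_tower, smul_comm e])
      (fun u c c' => by simp only [map_add, add_smul]) (fun e u c => by simp only [map_smul, smul_assoc]))
    have hK : ∀ u, K (HopfRep.Comod.coact (k := k) (A := A) u) = N.mkQ u := by
      intro u
      have h1 : ∀ z : M ⊗[k] A, K z = K' (TensorProduct.assoc k M A A
          ((HopfRep.Comod.coact (k := k) (A := A)).rTensor A z)) := by
        intro z
        induction z with
        | zero => simp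
        | tmul v c =>
          simp only [K, Pr, TensorProduct.lift.tmul, LinearMap.mk₂_apply, LinearMap.rTensor_tmul,
            LinearMap.comp_apply]
          generalize HopfRep.Comod.coact (k := k) (A := A) v = y
          induction y with
          | zero => simp
          | tmul p q =>
            simp only [Φ, K', TensorProduct.assoc_tmul, TensorProduct.lift.tmul, LinearMap.mk₂_apply,
              LinearMap.rTensor_tmul, LinearMap.mul'_apply, smul_smul]
            exact hcongr _ _ _ (by rw [map_mul, hj, hj, hj, mul_comm])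
          | add y z hy hz => simp only [map_add, smul_add, add_tmul, hy, hz]
        | add y z hy hz => simp only [map_add, hy, hz]
      have hco := LinearMap.congr_fun (HopfRep.Comod.coassoc (k := k) (A := A) (V := M)) u
      simp only [LinearMap.comp_apply, LinearEquiv.coe_coe] at hco
      have h2 : ∀ z : M ⊗[k] A, K' ((Coalgebra.comul (R := k)).lTensor M z) =
          N.mkQ (slR (Coalgebra.counit (R := k)) z) := by
        intro z
        induction z with
        | zero => simp
        | tmul v c =>
          simp only [K', LinearMap.lTensor_tmul, TensorProduct.lift.tmul, LinearMap.mk₂_apply,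
            HopfAlgebra.mul_antipode_rTensor_comul_apply, slR_tmul, LinearMap.map_smul_of_tower]
          rw [← algebraMap_smul R (Coalgebra.counit (R := k) c) (N.mkQ v)]
          exact hcongr _ _ _ (by rw [hj, AlgHom.commutes])
        | add y z hy hz => simp only [map_add, hy, hz]
      rw [h1, hco, h2, ← actL_apply, actL_counit]
    refine eq_top_iff.2 fun u _ => ?_
    have h : N.mkQ u ∈ (Submodule.span R (Set.range f)).map N.mkQ := by
      rw [← hK u]
      generalize HopfRep.Comod.coact (k := k) (A := A) u = z
      induction z with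
      | zero => simp
      | tmul v c => exact Submodule.smul_mem _ _ (hspan v)
      | add y z hy hz => rw [map_add]; exact add_mem hy hz
    rw [← Submodule.mem_comap, Submodule.comap_map_eq, Submodule.ker_mkQ] at h
    exact h

end FreeOrbit

section Orbit

variable {k : Type u} [Field k] {A : Type v} [CommRing A] [HopfAlgebra k A]
variable {R : Type w} [CommRing R] [Algebra k R] [HopfRep.Comod k A R] [GLin.IsCoactAlg k A R]

/-- Invariant equations of a free closed orbit in an invariant neighbourhood. -/
theorem exists_invariants_generating_orbit [IsNoetherianRing R] {α : A →ₗ[k] k} (hα : IsNormIntegral α)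
    (x : R →ₐ[k] k) (hx : Function.Surjective (GLin.orbitHom k A x))
    (I : Ideal R) (hI : I = RingHom.ker (GLin.orbitHom k A x)) :
    ∃ (r : ℕ) (f : Fin r → GLin.invariants k A R), (∀ i, (f i : R) ∈ I) ∧
      (∀ a : Fin r → R, ∑ i, a i * (f i : R) ∈ I * I → ∀ i, a i ∈ I) ∧
      (∀ y ∈ I, ∃ a : Fin r → R, y - ∑ i, a i * (f i : R) ∈ I * I) ∧
      ∃ b : GLin.invariants k A R, (b : R) - 1 ∈ I ∧
        (∀ y ∈ I, (b : R) * y ∈ Ideal.span (Set.range fun i => (f i : R))) ∧
        ∀ y ∈ Ideal.comap (GLin.invariants k A R).val I, b * y ∈ Ideal.span (Set.range f) := by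
  have hsub : HopfRep.IsSubcomod (k := k) (A := A) (I.restrictScalars k) :=
    hI ▸ isSubcomod_ker_orbitHom x
  letI cI : HopfRep.Comod k A I :=
    ComodSub.Comod.restr (inferInstance : HopfRep.Comod k A R) (I.restrictScalars k) hsub
  have hcoe : ∀ u : I, (I.subtype.restrictScalars k).rTensor A (HopfRep.Comod.coact (k := k) (A := A) u) =
      HopfRep.Comod.coact (k := k) (A := A) (u : R) := fun u =>
    ComodSub.restr_coact_coe (inferInstance : HopfRep.Comod k A R) (I.restrictScalars k) hsub u
  have hinj : Function.Injective ((I.subtype.restrictScalars k).rTensor A) :=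
    Module.Flat.rTensor_preserves_injective_linearMap _ I.injective_subtype
  haveI : TameAct.IsHopfMod k A R I := ⟨fun c u => by
    refine hinj ((hcoe (c • u)).trans ?_)
    rw [show ((c • u : I) : R) = c * (u : R) from rfl, GLin.IsCoactAlg.coact_mul (k := k), ← hcoe u]
    generalize HopfRep.Comod.coact (k := k) (A := A) c = y
    generalize HopfRep.Comod.coact (k := k) (A := A) u = z
    induction y with
    | zero => simp
    | tmul p q =>
      induction z with
      | zero => simp
      | tmul p' q' =>
        simp only [TameAct.hmSMul_tmul, LinearMap.rTensor_tmul]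
        exact Algebra.TensorProduct.tmul_mul_tmul _ _ _ _
      | add y z hy hz => simp only [map_add, mul_add, hy, hz]
    | add y z hy hz => simp only [map_add, LinearMap.add_apply, add_mul, hy, hz]⟩
  obtain ⟨r, g, hg, hind, hspan⟩ := exists_fixedPts_basis_mod_orbit (M := I) hα x hx I hI
  have hginv : ∀ i, (g i : R) ∈ GLin.invariants k A R := fun i => by
    refine (GLin.mem_invariants_iff k A R _).2 ?_
    rw [← hcoe, show HopfRep.Comod.coact (k := k) (A := A) (g i) = g i ⊗ₜ[k] (1 : A) from hg i]
    rfl
  have hmap : (I • (⊤ : Submodule R I)).map I.subtype = I * I := by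
    rw [Submodule.map_smul'', Submodule.map_top, Submodule.range_subtype, smul_eq_mul]
  have hval : ∀ a : Fin r → R, I.subtype (∑ i, a i • g i) = ∑ i, a i * (g i : R) := fun a => by
    simp
  have hmodsq : ∀ y ∈ I, ∃ a : Fin r → R, y - ∑ i, a i * (g i : R) ∈ I * I := by
    intro y hy
    have h : (⟨y, hy⟩ : I) ∈ Submodule.span R (Set.range g) ⊔ I • (⊤ : Submodule R I) := by
      rw [hspan]; exact Submodule.mem_top
    obtain ⟨p, hp, q, hq, hpq⟩ := Submodule.mem_sup.1 h
    obtain ⟨a, ha⟩ := (Submodule.mem_span_range_iff_exists_fun R).1 hp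
    refine ⟨a, ?_⟩
    rw [← hmap]
    refine ⟨q, hq, ?_⟩
    rw [← hval a, ha, eq_sub_iff_add_eq, ← map_add, add_comm, hpq]
    rfl
  let J : Ideal R := Ideal.span (Set.range fun i => (g i : R))
  have hJI : J ≤ I := Ideal.span_le.2 (by rintro _ ⟨i, rfl⟩; exact (g i).2)
  have hle : I.map (Ideal.Quotient.mk J) ≤ I.map (Ideal.Quotient.mk J) • I.map (Ideal.Quotient.mk J) := by
    rw [Ideal.map_le_iff_le_comap, smul_eq_mul, ← Ideal.map_mul]
    intro y hy
    obtain ⟨a, ha⟩ := hmodsq y hy
    have h0 : Ideal.Quotient.mk J (∑ i, a i * (g i : R)) = 0 :=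
      Ideal.Quotient.eq_zero_iff_mem.2 (J.sum_mem fun i _ => J.mul_mem_left _ (Ideal.subset_span ⟨i, rfl⟩))
    have h1 := Ideal.mem_map_of_mem (Ideal.Quotient.mk J) ha
    rw [map_sub, h0, sub_zero] at h1
    exact h1
  obtain ⟨c', hc'1, hc'⟩ := Submodule.exists_sub_one_mem_and_smul_eq_zero_of_fg_of_le_smul
    (I.map (Ideal.Quotient.mk J)) (I.map (Ideal.Quotient.mk J))
    (Ideal.FG.map (IsNoetherian.noetherian I) (Ideal.Quotient.mk J)) hle
  obtain ⟨c, rfl⟩ := Ideal.Quotient.mk_surjective c'
  have hc1 : c - 1 ∈ I := by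
    have h : c - 1 ∈ (I.map (Ideal.Quotient.mk J)).comap (Ideal.Quotient.mk J) := by
      rw [Ideal.mem_comap, map_sub, map_one]; exact hc'1
    rwa [Ideal.comap_map_of_surjective _ Ideal.Quotient.mk_surjective, ← RingHom.ker_eq_comap_bot,
      Ideal.mk_ker, sup_eq_left.2 hJI] at h
  have hc : ∀ y ∈ I, c * y ∈ J := fun y hy => by
    have h := hc' _ (Ideal.mem_map_of_mem (Ideal.Quotient.mk J) hy)
    rwa [smul_eq_mul, ← map_mul, Ideal.Quotient.eq_zero_iff_mem] at h
  obtain ⟨b, hb, hb1, hbI⟩ := exists_invariant_conductor hα I hsub (fun i => (g i : R)) hginv hc1 hc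
  refine ⟨r, fun i => ⟨(g i : R), hginv i⟩, fun i => (g i).2, fun a ha => hind a ?_, hmodsq,
    ⟨b, hb⟩, hb1, hbI, fun y hy => ?_⟩
  · have h : I.subtype (∑ i, a i • g i) ∈ (I • (⊤ : Submodule R I)).map I.subtype := by
      rw [hmap, hval]; exact ha
    obtain ⟨u, hu, huv⟩ := h
    rwa [← I.injective_subtype huv]
  · have h : (b * (y : R)) ∈ Ideal.span (Set.range fun i => (g i : R)) := hbI _ hy
    have e : Ideal.span (Set.range fun i => (g i : R)) =
        (Ideal.span (Set.range fun i => (⟨(g i : R), hginv i⟩ : GLin.invariants k A R))).map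
          (GLin.invariants k A R).val.toRingHom := by
      rw [Ideal.map_span, ← Set.range_comp]
      rfl
    rw [← ideal_comap_map hα (Ideal.span (Set.range fun i => (⟨(g i : R), hginv i⟩ : GLin.invariants k A R)))]
    rw [e] at h
    exact h

end Orbit

end Groth.Agent.LinRed
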