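import Groth.Agent.GrpSch.CharZero
import Groth.Agent.CAlgJac.Field
import Groth.Agent.STCILib.Smooth
import Mathlib.AlgebraicGeometry.Group.Affine

/-!
# Cartier's theorem for commutative Hopf algebras
-/

set_option autoImplicit false
universe u

open CategoryTheory AlgebraicGeometry

namespace Groth.Agent.LinRed

/-- A finitely generated commutative Hopf algebra over a field of characteristic zero is smooth. -/
theorem smooth_of_hopfAlgebra_charZero (k A : Type u) [Field k] [CharZero k] [CommRing A] [HopfAlgebra k A]
    [Algebra.FiniteType k A] : Algebra.Smooth k A := by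
  letI : HopfAlgebra (CommRingCat.of k : Type u) (CommRingCat.of A : Type u) := ‹HopfAlgebra k A›
  haveI : Algebra.FiniteType (CommRingCat.of k : Type u) (CommRingCat.of A : Type u) := ‹Algebra.FiniteType k A›
  haveI : LocallyOfFiniteType ((Spec (CommRingCat.of A)).asOver (Spec (CommRingCat.of k))).hom :=
    AlgebraicGeometry.locallyOfFiniteType_specOverSpec
  have h := Groth.Agent.GrpSch.smooth_of_charZero ((Spec (CommRingCat.of A)).asOver (Spec (CommRingCat.of k)))
  have h' : Smooth (Spec.map (CommRingCat.ofHom (algebraMap k A))) := h
  rw [HasRingHomProperty.Spec_iff (P := @Smooth)] at h'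
  exact RingHom.smooth_algebraMap.1 h'

/-- Its local rings at maximal ideals are regular. -/
theorem isRegularLocalRing_atPrime_hopfAlgebra (k A : Type u) [Field k] [CharZero k] [CommRing A]
    [HopfAlgebra k A] [Algebra.FiniteType k A] (p : Ideal A) [p.IsPrime] :
    IsRegularLocalRing (Localization.AtPrime p) := by
  haveI := smooth_of_hopfAlgebra_charZero k A
  haveI : Algebra.FormallyEtale A (Localization.AtPrime p) :=
    Algebra.FormallyEtale.of_isLocalization p.primeCompl
  haveI : Algebra.FormallySmooth k (Localization.AtPrime p) := Algebra.FormallySmooth.comp k A _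
  haveI : Algebra.EssFiniteType k (Localization.AtPrime p) :=
    haveI := Algebra.EssFiniteType.of_isLocalization (Localization.AtPrime p) p.primeCompl
    Algebra.EssFiniteType.comp k A _
  haveI : Algebra.FormallySmooth k (IsLocalRing.ResidueField (Localization.AtPrime p)) :=
    Groth.Agent.STCILib.formallySmooth_of_perfectField k _
  exact (Groth.Agent.CAlgJac.formallySmooth_iff_isRegularLocalRing_of_essFiniteType k
    (Localization.AtPrime p)).1 inferInstance

end Groth.Agent.LinRed
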