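import Groth.Agent.Comod.Integral
import Groth.Agent.HopfLib.Antipode
import Groth.Prelude.Def_ComodSub

/-!
# Linear reductivity and normalised integrals

A commutative Hopf algebra over a field is linearly reductive if and only if it has a normalised
two-sided integral; the Reynolds operator of a comodule is the action of that integral.
-/

set_option autoImplicit false
universe u v w w'

open TensorProduct

namespace Groth.Agent.LinRed

open Groth.Agent.Comod

section Ring

variable {k : Type u} [CommRing k] {A : Type v} [CommRing A] [HopfAlgebra k A]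

/-- a normalised two-sided invariant functional -/
structure IsNormIntegral (α : A →ₗ[k] k) : Prop where
  right : IsIntegral α
  left : ∀ a : A, slR α (Coalgebra.comul (R := k) a) = α a • (1 : A)
  map_one : α 1 = 1

theorem slR_comp_antipode (α : A →ₗ[k] k) (a : A)
    (h : slL α (Coalgebra.comul (R := k) (HopfAlgebraStruct.antipode k a)) =
      α (HopfAlgebraStruct.antipode k a) • (1 : A)) :
    slR (α ∘ₗ HopfAlgebraStruct.antipode k) (Coalgebra.comul (R := k) a) =
      α (HopfAlgebraStruct.antipode k a) • (1 : A) := by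
  have key : ∀ y : A ⊗[k] A,
      slR (α ∘ₗ HopfAlgebraStruct.antipode k)
          (TensorProduct.map (HopfAlgebraStruct.antipode k) (HopfAlgebraStruct.antipode k)
            (TensorProduct.comm k A A y)) =
        HopfAlgebraStruct.antipode k (slL α y) := by
    intro y
    induction y with
    | zero => simp
    | tmul p q => simp [Groth.Agent.HopfLib.antipode_antipode]
    | add y z hy hz => simp only [map_add, hy, hz]
  conv_lhs => rw [← Groth.Agent.HopfLib.antipode_antipode (k := k) a, Groth.Agent.HopfLib.comul_antipode,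
    key, h, map_smul, HopfAlgebra.antipode_one]

theorem eq_of_right_left {α β : A →ₗ[k] k} (hα1 : α 1 = 1) (hβ1 : β 1 = 1) {a : A}
    (hα : slL α (Coalgebra.comul (R := k) a) = α a • (1 : A))
    (hβ : slR β (Coalgebra.comul (R := k) a) = β a • (1 : A)) : α a = β a := by
  have key : ∀ y : A ⊗[k] A, β (slL α y) = α (slR β y) := by
    intro y
    induction y with
    | zero => simp
    | tmul p q => simp [mul_comm]
    | add y z hy hz => simp only [map_add, hy, hz]
  have h := key (Coalgebra.comul (R := k) a)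
  rw [hα, hβ, map_smul, map_smul, hβ1, hα1, smul_eq_mul, smul_eq_mul, mul_one, mul_one] at h
  exact h

theorem isNormIntegral_of_isIntegral {α : A →ₗ[k] k} (hα : IsIntegral α) (h1 : α 1 = 1) :
    IsNormIntegral α := by
  have h : ∀ a, α a = α (HopfAlgebraStruct.antipode k a) := fun a =>
    eq_of_right_left (β := α ∘ₗ HopfAlgebraStruct.antipode k) h1
      (by simp [h1]) (hα a) (slR_comp_antipode α a (hα _))
  refine ⟨hα, fun a => ?_, h1⟩
  have h2 := slR_comp_antipode α a (hα _)
  rw [show α ∘ₗ HopfAlgebraStruct.antipode k = α from LinearMap.ext fun x => (h x).symm, ← h a] at h2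
  exact h2

theorem IsNormIntegral.eq {α β : A →ₗ[k] k} (hα : IsNormIntegral α) (hβ : IsNormIntegral β) : α = β :=
  LinearMap.ext fun a => eq_of_right_left hα.map_one hβ.map_one (hα.right a) (hβ.left a)

variable {α : A →ₗ[k] k}
variable {V : Type w} [AddCommGroup V] [Module k V] [HopfRep.Comod k A V]
variable {W : Type w'} [AddCommGroup W] [Module k W] [HopfRep.Comod k A W]

theorem actL_mem_fixedPts (hα : IsNormIntegral α) (v : V) :
    actL α v ∈ HopfRep.fixedPts k A V := by
  show HopfRep.Comod.coact (k := k) (A := A) (actL α v) = actL α v ⊗ₜ[k] (1 : A)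
  let G : V ⊗[k] (A ⊗[k] A) →ₗ[k] V ⊗[k] A := (slR α).lTensor V
  have h1 : ∀ x : V ⊗[k] A, HopfRep.Comod.coact (k := k) (A := A) (slR α x) =
      G (TensorProduct.assoc k V A A ((HopfRep.Comod.coact (k := k) (A := A)).rTensor A x)) := by
    intro x
    induction x with
    | zero => simp
    | tmul u b =>
      rw [slR_tmul, map_smul, LinearMap.rTensor_tmul]
      generalize HopfRep.Comod.coact (k := k) (A := A) u = y
      induction y with
      | zero => simp
      | tmul p q => simp [G, TensorProduct.tmul_smul]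
      | add y z hy hz => simp only [map_add, add_tmul, smul_add, hy, hz]
    | add y z hy hz => simp only [map_add, hy, hz]
  have h2 : ∀ x : V ⊗[k] A, G ((Coalgebra.comul (R := k)).lTensor V x) = slR α x ⊗ₜ[k] (1 : A) := by
    intro x
    induction x with
    | zero => simp
    | tmul u b => simp [G, hα.left, TensorProduct.smul_tmul']
    | add y z hy hz => simp only [map_add, add_tmul, hy, hz]
  have hco := LinearMap.congr_fun (HopfRep.Comod.coassoc (k := k) (A := A) (V := V)) v
  simp only [LinearMap.comp_apply, LinearEquiv.coe_coe] at hco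
  rw [actL_apply, h1, hco, h2]

theorem isComodHom_actL (hα : IsNormIntegral α) : Hoch.IsComodHom A (actL (A := A) (V := V) α) := by
  apply LinearMap.ext
  intro v
  simp only [LinearMap.comp_apply]
  rw [actL_mem_fixedPts hα v]
  let G : V ⊗[k] (A ⊗[k] A) →ₗ[k] V ⊗[k] A := (slL α).lTensor V
  have h1 : ∀ x : V ⊗[k] A, (actL (A := A) (V := V) α).rTensor A x =
      G (TensorProduct.assoc k V A A ((HopfRep.Comod.coact (k := k) (A := A)).rTensor A x)) := by
    intro x
    induction x with
    | zero => simp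
    | tmul u b =>
      rw [LinearMap.rTensor_tmul, LinearMap.rTensor_tmul, actL_apply]
      generalize HopfRep.Comod.coact (k := k) (A := A) u = y
      induction y with
      | zero => simp
      | tmul p q => simp [G, TensorProduct.smul_tmul]
      | add y z hy hz => simp only [map_add, add_tmul, hy, hz]
    | add y z hy hz => simp only [map_add, hy, hz]
  have h2 : ∀ x : V ⊗[k] A, G ((Coalgebra.comul (R := k)).lTensor V x) = slR α x ⊗ₜ[k] (1 : A) := by
    intro x
    induction x with
    | zero => simp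
    | tmul u b => simp [G, hα.right b, TensorProduct.smul_tmul']
    | add y z hy hz => simp only [map_add, add_tmul, hy, hz]
  have hco := LinearMap.congr_fun (HopfRep.Comod.coassoc (k := k) (A := A) (V := V)) v
  simp only [LinearMap.comp_apply, LinearEquiv.coe_coe] at hco
  rw [h1, hco, h2, actL_apply]

theorem actL_eq_self (hα : IsNormIntegral α) {v : V} (hv : v ∈ HopfRep.fixedPts k A V) :
    actL α v = v := by
  rw [actL_apply, show HopfRep.Comod.coact (k := k) (A := A) v = v ⊗ₜ[k] (1 : A) from hv, slR_tmul,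
    hα.map_one, one_smul]

theorem actL_eq_self_iff (hα : IsNormIntegral α) (v : V) :
    actL α v = v ↔ v ∈ HopfRep.fixedPts k A V :=
  ⟨fun h => h ▸ actL_mem_fixedPts hα v, actL_eq_self hα⟩

theorem actL_comp_actL (hα : IsNormIntegral α) :
    actL (A := A) (V := V) α ∘ₗ actL (A := A) (V := V) α = actL (A := A) (V := V) α :=
  LinearMap.ext fun v => actL_eq_self hα (actL_mem_fixedPts hα v)

/-- a Reynolds operator is the action of the normalised integral -/
theorem eq_actL_of_reynolds (hα : IsNormIntegral α) {E : V →ₗ[k] V} (h1 : Hoch.IsComodHom A E)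
    (h2 : E ∘ₗ E = E) (h3 : ∀ x : V, E x = x ↔ x ∈ HopfRep.fixedPts k A V) : E = actL α := by
  apply LinearMap.ext
  intro v
  have hE : E v ∈ HopfRep.fixedPts k A V := (h3 _).1 (LinearMap.congr_fun h2 v)
  rw [← actL_eq_self hα hE, ← IsComodHom.map_actL h1 α v]
  exact (h3 _).2 (actL_mem_fixedPts hα v)

/-- invariants are exact -/
theorem exists_fixedPts_map_eq (hα : IsNormIntegral α) {f : V →ₗ[k] W} (hf : Hoch.IsComodHom A f)
    (hs : Function.Surjective f) {w : W} (hw : w ∈ HopfRep.fixedPts k A W) :
    ∃ v ∈ HopfRep.fixedPts k A V, f v = w := by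
  obtain ⟨v, rfl⟩ := hs w
  exact ⟨actL α v, actL_mem_fixedPts hα v, by rw [IsComodHom.map_actL hf, actL_eq_self hα hw]⟩

theorem map_mem_fixedPts {f : V →ₗ[k] W} (hf : Hoch.IsComodHom A f) {v : V}
    (hv : v ∈ HopfRep.fixedPts k A V) : f v ∈ HopfRep.fixedPts k A W := by
  show HopfRep.Comod.coact (k := k) (A := A) (f v) = f v ⊗ₜ[k] (1 : A)
  have h := LinearMap.congr_fun hf v
  simp only [LinearMap.comp_apply] at h
  rw [h, show HopfRep.Comod.coact (k := k) (A := A) v = v ⊗ₜ[k] (1 : A) from hv, LinearMap.rTensor_tmul]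

end Ring

section Field

variable {k : Type u} [Field k] {A : Type v} [CommRing A] [HopfAlgebra k A]

/-- invariant functionals on all finite subcomodules glue to a normalised integral -/
theorem exists_isNormIntegral_of_forall_finite
    (h : ∀ M : Submodule k A, Module.Finite k M → HopfRep.IsSubcomod (k := k) (A := A) M → (1 : A) ∈ M →
      ∃ α : A →ₗ[k] k, α 1 = 1 ∧ ∀ b ∈ M, slL α (Coalgebra.comul (R := k) b) = α b • (1 : A)) :
    ∃ α : A →ₗ[k] k, IsNormIntegral α := by
  classical
  let Good : Submodule k A → (A →ₗ[k] k) → Prop := fun M β =>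
    β 1 = 1 ∧ ∀ b ∈ M, slL β (Coalgebra.comul (R := k) b) = β b • (1 : A)
  have hex : ∀ s : Set A, s.Finite → ∃ M β, Good M β ∧ s ⊆ (M : Submodule k A) ∧ Module.Finite k M ∧
      HopfRep.IsSubcomod (k := k) (A := A) M := by
    intro s hs
    obtain ⟨M, hM, hsM, hMc⟩ := exists_finite_subcomod (k := k) (A := A) (V := A) (insert 1 s) (hs.insert 1)
    obtain ⟨β, hβ⟩ := h M hM hMc (hsM (Set.mem_insert _ _))
    exact ⟨M, β, hβ, fun x hx => hsM (Set.mem_insert_of_mem _ hx), hM, hMc⟩
  have key : ∀ {M N : Submodule k A} {β γ : A →ₗ[k] k}, Good M β → Good N γ → ∀ a : A, a ∈ M → a ∈ N →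
      HopfAlgebraStruct.antipode k a ∈ N → β a = γ a := by
    intro M N β γ hβ hγ a haM haN haS
    have h1 : β a = γ (HopfAlgebraStruct.antipode k a) :=
      eq_of_right_left (β := γ ∘ₗ HopfAlgebraStruct.antipode k) hβ.1 (by simp [hγ.1])
        (hβ.2 a haM) (slR_comp_antipode γ a (hγ.2 _ haS))
    have h2 : γ a = γ (HopfAlgebraStruct.antipode k a) :=
      eq_of_right_left (β := γ ∘ₗ HopfAlgebraStruct.antipode k) hγ.1 (by simp [hγ.1])
        (hγ.2 a haN) (slR_comp_antipode γ a (hγ.2 _ haS))
    rw [h1, h2]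
  have hpt : ∀ a : A, ∃ M β, Good M β ∧ a ∈ (M : Submodule k A) ∧ HopfAlgebraStruct.antipode k a ∈ M := by
    intro a
    obtain ⟨M, β, hG, hs, -, -⟩ := hex {a, HopfAlgebraStruct.antipode k a} (Set.toFinite _)
    exact ⟨M, β, hG, hs (by simp), hs (by simp)⟩
  choose M β hG haM haS using hpt
  have hval : ∀ (a : A) (N : Submodule k A) (γ : A →ₗ[k] k), Good N γ → a ∈ N → γ a = β a a :=
    fun a N γ hγ ha => key hγ (hG a) a ha (haM a) (haS a)
  let α : A →ₗ[k] k :=
    { toFun := fun a => β a a
      map_add' := fun x y => by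
        obtain ⟨N, γ, hγ, hs, -, -⟩ := hex {x, y} (Set.toFinite _)
        have hx : x ∈ N := hs (by simp)
        have hy : y ∈ N := hs (by simp)
        rw [← hval x N γ hγ hx, ← hval y N γ hγ hy, ← hval (x + y) N γ hγ (add_mem hx hy), map_add]
      map_smul' := fun c x => by
        rw [← hval (c • x) (M x) (β x) (hG x) (Submodule.smul_mem _ c (haM x)), map_smul]
        rfl }
  refine ⟨α, isNormIntegral_of_isIntegral (fun a => ?_) (hG 1).1⟩
  obtain ⟨N, hN, hsN, hNc⟩ := exists_finite_subcomod (k := k) (A := A) (V := A) {a} (Set.finite_singleton a)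
  obtain ⟨t, ht⟩ := Module.Finite.iff_fg.1 hN
  obtain ⟨P, γ, hγ, htP, -, -⟩ := hex (insert a (t : Set A)) (t.finite_toSet.insert a)
  have hNP : N ≤ P := ht ▸ Submodule.span_le.2 fun x hx => htP (Set.mem_insert_of_mem _ hx)
  obtain ⟨y, hy⟩ := hNc a (hsN rfl)
  have e : slL α (Coalgebra.comul (R := k) a) = slL γ (Coalgebra.comul (R := k) a) := by
    change slL α (HopfRep.Comod.coact (k := k) (A := A) a) = slL γ (HopfRep.Comod.coact (k := k) (A := A) a)
    rw [← hy]
    clear hy
    induction y with
    | zero => simp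
    | tmul p q => simp [α, ← hval (p : A) P γ hγ (hNP p.2)]
    | add y z hy hz => simp only [map_add, hy, hz]
  rw [e, hγ.2 a (hNP (hsN rfl))]
  show γ a • (1 : A) = β a a • (1 : A)
  rw [hval a P γ hγ (hNP (hsN rfl))]

/-- linear reductivity gives a normalised integral -/
theorem exists_isNormIntegral (hG : HopfRep.IsLinearlyReductive k A) :
    ∃ α : A →ₗ[k] k, IsNormIntegral α := by
  refine exists_isNormIntegral_of_forall_finite fun M hM hMc h1 => ?_
  letI cM : HopfRep.Comod k A M := ComodSub.Comod.restr (HopfRep.Comod.regular k A) M hMc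
  have hc : ∀ b : M, M.subtype.rTensor A (HopfRep.Comod.coact (k := k) (A := A) b) =
      Coalgebra.comul (R := k) (b : A) := fun b => ComodSub.restr_coact_coe _ M hMc b
  let e : M := ⟨1, h1⟩
  let P : Submodule k M := Submodule.span k {e}
  have hPc : HopfRep.IsSubcomod (k := k) (A := A) P := by
    intro x hx
    obtain ⟨c, rfl⟩ := Submodule.mem_span_singleton.1 hx
    refine ⟨(⟨c • e, hx⟩ : P) ⊗ₜ (1 : A), ?_⟩
    apply ComodSub.rTensor_subtype_injective (A := A) M
    rw [hc]
    simp [e, Bialgebra.comul_one, Algebra.TensorProduct.one_def, TensorProduct.smul_tmul']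
  obtain ⟨Q, hQc, hPQ⟩ := hG M hM P hPc
  have he : e ≠ 0 := fun hz => one_ne_zero (α := k) (by
    simpa [e] using congrArg (Coalgebra.counit (R := k) (A := A)) (congrArg Subtype.val hz))
  obtain ⟨f, hf⟩ : ∃ f : M →ₗ[k] k, f e = 1 ∧ ∀ q ∈ Q, f q = 0 := by
    refine ⟨(LinearEquiv.toSpanNonzeroSingleton k M e he).symm.toLinearMap ∘ₗ P.projectionOnto Q hPQ,
      ?_, fun q hq => ?_⟩
    · rw [LinearMap.comp_apply,
        Submodule.projectionOnto_apply_left hPQ (⟨e, Submodule.mem_span_singleton_self e⟩ : P),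
        LinearEquiv.coe_coe, LinearEquiv.symm_apply_eq, LinearEquiv.toSpanNonzeroSingleton_one]
    · rw [LinearMap.comp_apply, Submodule.projectionOnto_apply_right hPQ ⟨q, hq⟩, map_zero]
  obtain ⟨r, hr⟩ := LinearMap.exists_leftInverse_of_injective M.subtype (Submodule.ker_subtype M)
  have hr' : ∀ b : M, r (b : A) = b := fun b => LinearMap.congr_fun hr b
  refine ⟨f ∘ₗ r, by rw [LinearMap.comp_apply, show (1 : A) = (e : A) from rfl, hr', hf.1], fun b hb => ?_⟩
  obtain ⟨p, hp, q, hq, hb'⟩ := Submodule.mem_sup.1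
    (show (⟨b, hb⟩ : M) ∈ P ⊔ Q by rw [hPQ.sup_eq_top]; trivial)
  obtain ⟨c, rfl⟩ := Submodule.mem_span_singleton.1 hp
  have hbA : b = c • (1 : A) + (q : A) := by
    have := congrArg Subtype.val hb'
    simpa [e] using this.symm
  obtain ⟨y, hy⟩ := hQc q hq
  have hq0 : slL (f ∘ₗ r) (Coalgebra.comul (R := k) (q : A)) = 0 := by
    rw [← hc q, ← hy]
    clear hy
    induction y with
    | zero => simp
    | tmul s t => simp [hr' (s : M), hf.2 _ s.2]
    | add y z hy hz => simp only [map_add, hy, hz, add_zero]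
  have hfb : (f ∘ₗ r) b = c := by
    rw [LinearMap.comp_apply, show b = ((⟨b, hb⟩ : M) : A) from rfl, hr', ← hb', map_add, map_smul, hf.1, hf.2 q hq]
    simp
  rw [hfb, hbA, map_add, map_smul, map_add, map_smul, hq0, add_zero, Bialgebra.comul_one,
    Algebra.TensorProduct.one_def, slL_tmul, LinearMap.comp_apply, show (1 : A) = (e : A) from rfl, hr', hf.1,
    one_smul]

theorem isLinearlyReductive_of_isNormIntegral {α : A →ₗ[k] k} (hα : IsNormIntegral α) :
    HopfRep.IsLinearlyReductive k A :=
  fun _ _ _ _ _ => isSemisimpleComod_of_integral hα.right hα.map_one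

theorem isLinearlyReductive_iff_exists_isNormIntegral :
    HopfRep.IsLinearlyReductive k A ↔ ∃ α : A →ₗ[k] k, IsNormIntegral α :=
  ⟨exists_isNormIntegral, fun ⟨_, hα⟩ => isLinearlyReductive_of_isNormIntegral hα⟩

end Field

end Groth.Agent.LinRed
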