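import Groth.Agent.LinRed.Orbit
import Groth.Agent.LinRed.HopfSmooth

/-!
# Orbits are open in their closures; closed orbits and finite morphisms
-/

set_option autoImplicit false
universe u w

open TensorProduct WithConv

namespace Groth.Agent.LinRed

open Groth.Agent.Comod

section General

variable {k : Type u} [Field k] [IsAlgClosed k] {A : Type u} [CommRing A] [HopfAlgebra k A]
  [Algebra.FiniteType k A] [_root_.IsReduced A]

/-- A function all of whose translates vanish at a point is zero. -/
theorem eq_zero_of_forall_transR (z : A →ₐ[k] k) {a : A} (h : ∀ γ : WithConv (A →ₐ[k] k), z (transR γ a) = 0) : a = 0 := by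
  have hall : ∀ t : A →ₐ[k] k, t a = 0 := fun t => by
    have h6 := h ((toConv z)⁻¹ * toConv t)
    rw [show z (transR ((toConv z)⁻¹ * toConv t) a) =
      (toConv z * ((toConv z)⁻¹ * toConv t)).ofConv a from apply_transR (toConv z) _ _] at h6
    rwa [mul_inv_cancel_left] at h6
  haveI : IsJacobsonRing A := isJacobsonRing_of_finiteType (A := k)
  have hj : a ∈ (⊥ : Ideal A).jacobson := by
    refine Ideal.mem_sInf.2 fun M hM => ?_
    obtain ⟨_, hMmax⟩ := hM
    obtain ⟨t, ht⟩ := exists_point_of_ne_top (k := k) (R := A) M hMmax.ne_top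
    rw [hMmax.eq_of_le (RingHom.ker_ne_top t.toRingHom) ht]
    exact hall t
  have hrad : (⊥ : Ideal A).IsRadical := fun b ⟨n, hn⟩ =>
    (Ideal.mem_bot).2 (IsReduced.eq_zero b ⟨n, (Ideal.mem_bot).1 hn⟩)
  rw [IsJacobsonRing.out inferInstance hrad] at hj
  exact (Ideal.mem_bot).1 hj

/-- An element of a subalgebra whose primes are all seen from a translate is seen everywhere. -/
theorem exists_translate_image (B : Subalgebra k A) (hB : Algebra.FiniteType k B)
    (hstab : ∀ (γ : WithConv (A →ₐ[k] k)) (b : B), transR γ (b : A) ∈ B) :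
    ∃ b : B, b ≠ 0 ∧ ∀ p : PrimeSpectrum B,
      (∃ γ, (⟨transR γ (b : A), hstab γ b⟩ : B) ∉ p.asIdeal) →
        p ∈ Set.range (PrimeSpectrum.comap (algebraMap B A)) := by
  classical
  haveI : Nontrivial A := (Bialgebra.counitAlgHom k A).toRingHom.domain_nontrivial
  haveI : IsReduced B := isReduced_of_injective B.val Subtype.val_injective
  haveI : Algebra.FiniteType B A := Algebra.FiniteType.of_restrictScalars_finiteType k B A
  obtain ⟨f, -, hf0, -, hfree, -, -⟩ :=
    Groth.Agent.GenFree.exists_generic_freeness (R := B) A A (g := (1 : B)) one_ne_zero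
  refine ⟨f, hf0, ?_⟩
  haveI : Module.Free (Localization.Away f) (LocalizedModule.Away f A) := hfree
  haveI : Nontrivial (LocalizedModule.Away f A) := by
    refine ⟨⟨LocalizedModule.mk 1 1, 0, fun h => ?_⟩⟩
    obtain ⟨⟨_, n, rfl⟩, hn⟩ := LocalizedModule.mk_eq.1 (h.trans (LocalizedModule.zero_mk 1).symm)
    rw [one_smul, one_smul, smul_zero] at hn
    have hn' : algebraMap B A f ^ n * 1 = 0 := by
      rw [← map_pow, ← Algebra.smul_def]; exact hn
    rw [mul_one] at hn'
    exact hf0 (Subtype.ext (IsReduced.eq_zero _ ⟨n, hn'⟩))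
  haveI hff : Module.FaithfullyFlat (Localization.Away f) (LocalizedModule.Away f A) := inferInstance
  have hD : ∀ p : PrimeSpectrum B, f ∉ p.asIdeal → p ∈ Set.range (PrimeSpectrum.comap (algebraMap B A)) := by
    intro p hp
    haveI : Nontrivial (p.asIdeal.ResidueField ⊗[B] A) := by
      have hp' : p ∈ Set.range (PrimeSpectrum.comap (algebraMap B (Localization.Away f))) := by
        rw [PrimeSpectrum.localization_away_comap_range (Localization.Away f) f]; exact hp
      obtain ⟨q, hq⟩ := hp'
      by_contra hn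
      rw [not_nontrivial_iff_subsingleton] at hn
      -- the fibre at `q` of the free module is nonzero
      letI : Algebra p.asIdeal.ResidueField q.asIdeal.ResidueField :=
        (Ideal.ResidueField.map p.asIdeal q.asIdeal (algebraMap B (Localization.Away f))
          (congrArg PrimeSpectrum.asIdeal hq).symm).toAlgebra
      haveI : IsScalarTower B p.asIdeal.ResidueField q.asIdeal.ResidueField :=
        IsScalarTower.of_algebraMap_eq fun b => by
          rw [RingHom.algebraMap_toAlgebra, IsScalarTower.algebraMap_apply B (Localization.Away f) q.asIdeal.ResidueField]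
          exact (Ideal.ResidueField.map_algebraMap _ _ _ _ b).symm
      haveI : Subsingleton (q.asIdeal.ResidueField ⊗[B] A) :=
        (TensorProduct.AlgebraTensorModule.cancelBaseChange B p.asIdeal.ResidueField q.asIdeal.ResidueField
          q.asIdeal.ResidueField A).symm.injective.subsingleton
      have hloc : IsBaseChange (Localization.Away f) (LocalizedModule.mkLinearMap (Submonoid.powers f) A) :=
        IsLocalizedModule.isBaseChange (Submonoid.powers f) _ _
      haveI : Nontrivial (q.asIdeal.ResidueField ⊗[Localization.Away f] LocalizedModule.Away f A) :=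
        Module.FaithfullyFlat.rTensor_nontrivial _ _ _
      exact not_subsingleton (q.asIdeal.ResidueField ⊗[Localization.Away f] LocalizedModule.Away f A)
        ((TensorProduct.AlgebraTensorModule.congr (LinearEquiv.refl (Localization.Away f) q.asIdeal.ResidueField) hloc.equiv.symm ≪≫ₗ
          TensorProduct.AlgebraTensorModule.cancelBaseChange B (Localization.Away f) (Localization.Away f)
            q.asIdeal.ResidueField A).injective.subsingleton)
    haveI : Nontrivial (p.asIdeal.Fiber A) := ‹_›
    exact p.nontrivial_iff_mem_rangeComap.1 ‹_›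
  rintro p ⟨γ, hγ⟩
  let σ : WithConv (A →ₐ[k] k) → B →+* B := fun δ =>
    ((transR δ : A →ₐ[k] A).comp B.val).toRingHom.codRestrict B fun b => hstab δ b
  obtain ⟨Q, hQ⟩ := hD (PrimeSpectrum.comap (σ γ) p) hγ
  refine ⟨PrimeSpectrum.comap (transR γ⁻¹ : A →ₐ[k] A).toRingHom Q, ?_⟩
  have hcomp : ∀ b : B, σ γ (σ γ⁻¹ b) = b := fun b => Subtype.ext (by
    show transR γ (transR γ⁻¹ (b : A)) = (b : A)
    rw [← AlgHom.comp_apply, transR_comp, mul_inv_cancel, transR_one]; rfl)
  have hQ' := congrArg (PrimeSpectrum.comap (σ γ⁻¹)) hQ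
  refine Eq.trans ?_ (hQ'.trans (PrimeSpectrum.ext (Ideal.ext fun b => ?_)))
  · rfl
  · show σ γ (σ γ⁻¹ b) ∈ p.asIdeal ↔ b ∈ p.asIdeal
    rw [hcomp]

/-- A stable finitely generated subalgebra over which the integral image of another one is covered. -/
theorem comap_surjective_of_integral (B C : Subalgebra k A) (hCB : C ≤ B) (hB : Algebra.FiniteType k B)
    (hstab : ∀ (γ : WithConv (A →ₐ[k] k)) (b : B), transR γ (b : A) ∈ B)
    (hstabC : ∀ (γ : WithConv (A →ₐ[k] k)) (b : C), transR γ (b : A) ∈ C)
    (hint : ∀ b : B, ∃ P : Polynomial C, P.Monic ∧ Polynomial.aeval (b : A) P = 0)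
    (hC : Function.Surjective (PrimeSpectrum.comap (algebraMap C A))) :
    Function.Surjective (PrimeSpectrum.comap (algebraMap B A)) := by
  classical
  obtain ⟨b, hb0, himg⟩ := exists_translate_image B hB hstab
  intro p
  refine himg p ?_
  by_contra hall
  simp only [not_exists, not_not] at hall
  haveI : Nontrivial A := (Bialgebra.counitAlgHom k A).toRingHom.domain_nontrivial
  haveI : IsReduced B := isReduced_of_injective B.val Subtype.val_injective
  haveI : IsNoetherianRing B := Algebra.FiniteType.isNoetherianRing k B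
  -- the ideal of translates
  let N : Ideal B := Ideal.span (Set.range fun γ => (⟨transR γ (b : A), hstab γ b⟩ : B))
  let σ : WithConv (A →ₐ[k] k) → B →+* B := fun δ =>
    ((transR δ : A →ₐ[k] A).comp B.val).toRingHom.codRestrict B fun b => hstab δ b
  have hNσ : ∀ δ, ∀ c ∈ N, σ δ c ∈ N := by
    intro δ c hc
    have h : N.map (σ δ) ≤ N := by
      rw [Ideal.map_span, Ideal.span_le]
      rintro _ ⟨_, ⟨γ, rfl⟩, rfl⟩
      refine Ideal.subset_span ⟨δ * γ, Subtype.ext ?_⟩
      show transR (δ * γ) (b : A) = transR δ (transR γ (b : A))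
      rw [← transR_comp]; rfl
    exact h (Ideal.mem_map_of_mem _ hc)
  have hNp : N ≤ p.asIdeal := Ideal.span_le.2 (by rintro _ ⟨γ, rfl⟩; exact hall γ)
  -- it meets the set of non-zero-divisors
  obtain ⟨c, hcN, hc⟩ : ∃ c ∈ N, ∀ q ∈ minimalPrimes B, c ∉ q := by
    by_contra hne
    simp only [not_exists, not_and, not_forall, not_not] at hne
    have hfin : (minimalPrimes B).Finite := minimalPrimes.finite_of_isNoetherianRing B
    obtain ⟨q, hq, hNq⟩ := (Ideal.subset_union_prime_finite hfin (f := fun q => q) ⊥ ⊥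
      (fun q hq _ _ => hq.1.1)).1 (show (N : Set B) ⊆ ⋃ q ∈ minimalPrimes B, (q : Set B) from fun c hc => by
        obtain ⟨q, hq, hcq⟩ := hne c hc
        exact Set.mem_biUnion hq hcq)
    haveI := hq.1.1
    obtain ⟨Q, hQp, hQ⟩ := Ideal.exists_comap_eq_of_mem_minimalPrimes (f := algebraMap B A) (I := ⊥) q (by
      rw [show Ideal.comap (algebraMap B A) ⊥ = ⊥ from
        (RingHom.injective_iff_ker_eq_bot (algebraMap B A)).1 Subtype.val_injective]
      exact hq)
    obtain ⟨z, hz⟩ := exists_point_of_ne_top (k := k) (R := A) Q hQp.ne_top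
    refine hb0 (Subtype.ext (eq_zero_of_forall_transR z fun γ => ?_))
    have h : (⟨transR γ (b : A), hstab γ b⟩ : B) ∈ q := hNq (Ideal.subset_span ⟨γ, rfl⟩)
    rw [← hQ.2] at h
    exact hz h
  have hnzd : ∀ a : B, c * a = 0 → a = 0 := by
    intro a ha
    have h : a ∈ sInf (minimalPrimes B) := by
      refine Ideal.mem_sInf.2 fun {q} hq => ?_
      haveI := hq.1.1
      exact ((hq.1.1).mem_or_mem (by rw [ha]; exact q.zero_mem)).resolve_left (hc q hq)
    rw [show minimalPrimes B = (⊥ : Ideal B).minimalPrimes from rfl, Ideal.sInf_minimalPrimes] at h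
    obtain ⟨n, hn⟩ := h
    exact IsReduced.eq_zero a ⟨n, (Ideal.mem_bot).1 hn⟩
  -- hence a nonzero element of `C`
  letI : Algebra C B := (Subalgebra.inclusion hCB).toRingHom.toAlgebra
  haveI : IsScalarTower C B A := IsScalarTower.of_algebraMap_eq fun _ => rfl
  obtain ⟨P, hPm, hP⟩ := hint c
  have hP' : Polynomial.aeval c P = 0 := Subtype.ext (by
    have h := Polynomial.aeval_algebraMap_apply A c P
    rw [show algebraMap B A c = (c : A) from rfl, hP] at h
    exact h.symm)
  haveI : Nontrivial C := ⟨⟨0, 1, fun h => zero_ne_one (congrArg Subtype.val h)⟩⟩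
  obtain ⟨q, hPq, hq⟩ := Polynomial.exists_eq_pow_rootMultiplicity_mul_and_not_dvd P hPm.ne_zero 0
  rw [map_zero, sub_zero] at hq
  have hq0 : Polynomial.aeval c q = 0 := by
    rw [hPq, map_mul, map_pow, map_zero, sub_zero, Polynomial.aeval_X] at hP'
    generalize P.rootMultiplicity 0 = n at hP'
    induction n with
    | zero => simpa using hP'
    | succ n ih => exact ih (hnzd _ (by rw [← hP']; ring))
  have ha0 : q.coeff 0 ≠ 0 := fun h => hq (Polynomial.X_dvd_iff.2 h)
  have haN : algebraMap C B (q.coeff 0) ∈ N := by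
    rw [← Polynomial.X_mul_divX_add q, map_add, map_mul, Polynomial.aeval_X, Polynomial.aeval_C] at hq0
    rw [eq_neg_of_add_eq_zero_right hq0]
    exact neg_mem (Ideal.mul_mem_right _ _ hcN)
  -- its translates vanish at a point over `p`
  have hne : Ideal.comap (algebraMap C B) p.asIdeal ≠ ⊤ := (Ideal.IsPrime.comap _).ne_top
  obtain ⟨Q, hQ⟩ := hC ⟨Ideal.comap (algebraMap C B) p.asIdeal, inferInstance⟩
  obtain ⟨z, hz⟩ := exists_point_of_ne_top (k := k) (R := A) Q.asIdeal Q.isPrime.ne_top
  refine ha0 (Subtype.ext (eq_zero_of_forall_transR z fun δ => hz ?_))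
  show (⟨transR δ (q.coeff 0 : A), hstabC δ _⟩ : C) ∈ (PrimeSpectrum.comap (algebraMap C A) Q).asIdeal
  rw [hQ]
  show algebraMap C B ⟨transR δ (q.coeff 0 : A), hstabC δ _⟩ ∈ p.asIdeal
  exact hNp (show σ δ (algebraMap C B (q.coeff 0)) ∈ N from hNσ δ _ haN)

end General

end Groth.Agent.LinRed
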