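import Groth.Agent.LinRed.GLn
import Groth.Agent.Comod.GL
import Groth.Agent.Comod.Integral
import Groth.Agent.Comod.Module

/-!
# Homogeneous representations of `GL_r` inside twisted tensor powers
-/

set_option autoImplicit false
universe u v w w'

open TensorProduct MvPolynomial LaurentPolynomial

noncomputable section

namespace Groth.Agent.LinRed.GLn

open Groth.Agent.Comod

section

variable {k : Type u} [Field k] {r : ℕ}

/-- the standard representation of `GL_r` -/
abbrev std (r : ℕ) (k : Type u) [CommRing k] : HopfRep.Comod k (CoordGrp.GLn r k) (Fin r → k) :=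
  GLin.comodAlong (CoordGrp.Mat.toGLn r k) (ComodTens.stdVec r k)

theorem exists_hom_std_row (i : Fin r) : ∃ g : (Fin r → k) →ₗ[k] CoordGrp.GLn r k,
    (@Hoch.IsComodHom k _ (CoordGrp.GLn r k) _ _ _ (Fin r → k) _ _ (std r k) (CoordGrp.GLn r k) _ _
      (HopfRep.Comod.regular k (CoordGrp.GLn r k)) g) ∧ ∀ j, g (Pi.basisFun k (Fin r) j) = CoordGrp.GLn.X i j := by
  refine ⟨(Pi.basisFun k (Fin r)).constr k fun j => CoordGrp.GLn.X i j, ?_, fun j => Module.Basis.constr_basis _ _ _ _⟩
  refine (Pi.basisFun k (Fin r)).ext fun j => ?_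
  simp only [LinearMap.comp_apply, Module.Basis.constr_basis]
  show Coalgebra.comul (R := k) (CoordGrp.GLn.X i j : CoordGrp.GLn r k) = _
  rw [show (std r k).coact (Pi.basisFun k (Fin r) j) =
    TensorProduct.map LinearMap.id (CoordGrp.Mat.toGLn r k : CoordGrp.Mat r k →ₗ[k] CoordGrp.GLn r k)
      ((ComodTens.stdVec r k).coact (Pi.basisFun k (Fin r) j)) from rfl, ComodTens.stdVec_coact_basisFun,
    map_sum, map_sum, CoordGrp.GLn.comul_X]
  refine Finset.sum_congr rfl fun l _ => ?_
  rw [TensorProduct.map_tmul, LinearMap.rTensor_tmul, LinearMap.id_apply, Module.Basis.constr_basis]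
  exact congrArg _ (CoordGrp.Mat.toGLn_X l j).symm

end

section Generic

variable {k : Type u} [Field k] {A : Type v} [CommRing A] [HopfAlgebra k A]
variable {U : Type w} [AddCommGroup U] [Module k U]

/-- the comodule maps from the `a`-th tensor power to functions -/
def homs (cU : HopfRep.Comod k A U) (a : ℕ) : Set (TensorPower k a U →ₗ[k] A) :=
  {h | @Hoch.IsComodHom k _ A _ _ _ _ _ _ (ComodTens.Comod.tpow cU a) _ _ _
    (HopfRep.Comod.regular k A) h}

/-- the functions occurring in the `a`-th tensor power -/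
def homsImage (cU : HopfRep.Comod k A U) (a : ℕ) : Submodule k A := ⨆ h : homs cU a, LinearMap.range h.1

theorem one_mem_homsImage (cU : HopfRep.Comod k A U) : (1 : A) ∈ homsImage cU 0 := by
  let e := (PiTensorProduct.isEmptyEquiv (Fin 0) (R := k) (s := fun _ : Fin 0 => U)).symm
  have hh : (Algebra.linearMap k A ∘ₗ e.symm.toLinearMap) ∈ homs cU 0 := by
    letI : HopfRep.Comod k A k := HopfRep.Comod.trivial k A k
    refine isComodHom_ofEquiv (U := A) e _ (f := Algebra.linearMap k _) (LinearMap.ext_ring ?_)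
    show Coalgebra.comul (R := k) (algebraMap k A 1) =
      (Algebra.linearMap k _).rTensor A ((1 : k) ⊗ₜ[k] (1 : A))
    simp [Algebra.TensorProduct.one_def]
  exact Submodule.mem_iSup_of_mem ⟨_, hh⟩ ⟨e 1, by simp⟩

theorem mul_mem_homsImage (cU : HopfRep.Comod k A U) {a : ℕ} {x : A} (hx : x ∈ homsImage cU a)
    {g : U →ₗ[k] A} (hg : @Hoch.IsComodHom k _ A _ _ _ U _ _ cU A _ _ (HopfRep.Comod.regular k A) g) (u : U) :
    x * g u ∈ homsImage cU (a + 1) := by
  rw [homsImage] at hx
  induction hx using Submodule.iSup_induction' with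
  | mem h x hx =>
    obtain ⟨y, rfl⟩ := hx
    let e1 := (PiTensorProduct.subsingletonEquiv (R := k) (s := fun _ : Fin 1 => U) (0 : Fin 1)).symm
    let em := TensorPower.mulEquiv (R := k) (M := U) (n := a) (m := 1)
    have hh : (LinearMap.mul' k A ∘ₗ TensorProduct.map h.1 (g ∘ₗ e1.symm.toLinearMap)) ∘ₗ
        em.symm.toLinearMap ∈ homs cU (a + 1) :=
      isComodHom_ofEquiv em _ (isComodHom_mul _ _ h.2 (isComodHom_ofEquiv e1 cU hg))
    refine Submodule.mem_iSup_of_mem ⟨_, hh⟩ ⟨em (y ⊗ₜ e1 u), ?_⟩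
    simp [LinearMap.comp_apply]
  | zero => simp
  | add x y _ _ hx hy => rw [add_mul]; exact add_mem hx hy

end Generic

section

variable {k : Type u} [Field k] {r : ℕ}

theorem incl_homogeneous_mem_homsImage (p : MvPolynomial (Fin r × Fin r) k) (a : ℕ) :
    incl r k (homogeneousComponent a p) ∈ homsImage (std r k) a := by
  induction p using MvPolynomial.induction_on generalizing a with
  | C c =>
    rw [homogeneousComponent_of_mem (isHomogeneous_C _ c)]
    split_ifs with h
    · subst h
      rw [← MvPolynomial.algebraMap_eq, AlgHom.commutes, Algebra.algebraMap_eq_smul_one]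
      exact Submodule.smul_mem _ _ (one_mem_homsImage _)
    · simp
  | add p q hp hq => rw [map_add, map_add]; exact add_mem (hp a) (hq a)
  | mul_X p ij hp =>
    rw [homogeneousComponent_mul_homogeneous _ _ (isHomogeneous_X k _)]
    split_ifs with h
    · obtain ⟨a, rfl⟩ : ∃ m, a = m + 1 := ⟨a - 1, by omega⟩
      rw [map_mul, Nat.add_sub_cancel, show incl r k (X ij) = CoordGrp.GLn.X ij.1 ij.2 from aeval_X _ _]
      obtain ⟨g, hg, hgv⟩ := exists_hom_std_row (k := k) ij.1
      rw [← hgv ij.2]
      exact mul_mem_homsImage _ (hp a) hg _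
    · simp

theorem diag_one_weight (p : MvPolynomial (Fin r × Fin r) k) :
    ∀ d, TensorProduct.map LinearMap.id
        (CoordGrp.GLn.diag r k (fun _ => 1) : CoordGrp.GLn r k →ₗ[k] k[T;T⁻¹])
        (Coalgebra.comul (R := k) (incl r k (homogeneousComponent d p))) =
      incl r k (homogeneousComponent d p) ⊗ₜ[k] T (d : ℤ) := by
  have halg : ∀ x : CoordGrp.GLn r k, TensorProduct.map LinearMap.id
      (CoordGrp.GLn.diag r k (fun _ => 1) : CoordGrp.GLn r k →ₗ[k] k[T;T⁻¹]) (Coalgebra.comul (R := k) x) =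
      ((Algebra.TensorProduct.map (AlgHom.id k (CoordGrp.GLn r k))
        (CoordGrp.GLn.diag r k (fun _ => 1) : CoordGrp.GLn r k →ₐ[k] k[T;T⁻¹])).comp
          (Bialgebra.comulAlgHom k _)) x := fun x => rfl
  simp only [halg]
  induction p using MvPolynomial.induction_on with
  | C c =>
    intro d
    rw [homogeneousComponent_of_mem (isHomogeneous_C _ c)]
    split_ifs with h
    · subst h
      rw [← MvPolynomial.algebraMap_eq, AlgHom.commutes, AlgHom.commutes, Algebra.TensorProduct.algebraMap_apply]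
      simp
    · simp
  | add p q hp hq => intro d; simp only [map_add, hp, hq, TensorProduct.add_tmul]
  | mul_X p ij hp =>
    intro d
    rw [homogeneousComponent_mul_homogeneous _ _ (isHomogeneous_X k _)]
    split_ifs with h
    · obtain ⟨d, rfl⟩ : ∃ m, d = m + 1 := ⟨d - 1, by omega⟩
      rw [map_mul, map_mul, Nat.add_sub_cancel, hp, show incl r k (X ij) = CoordGrp.GLn.X ij.1 ij.2 from aeval_X _ _]
      have hX : ((Algebra.TensorProduct.map (AlgHom.id k (CoordGrp.GLn r k))
          (CoordGrp.GLn.diag r k (fun _ => 1) : CoordGrp.GLn r k →ₐ[k] k[T;T⁻¹])).comp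
            (Bialgebra.comulAlgHom k _)) (CoordGrp.GLn.X ij.1 ij.2) =
          (CoordGrp.GLn.X ij.1 ij.2 : CoordGrp.GLn r k) ⊗ₜ[k] T 1 := by
        simp [CoordGrp.GLn.comul_X, TensorProduct.tmul_ite]
      rw [hX, Algebra.TensorProduct.tmul_mul_tmul, ← T_add]
      push_cast
      rfl
    · simp

/-- the coefficient of `T ^ h` -/
def lcoeffT (k : Type u) [CommRing k] (h : ℤ) : k[T;T⁻¹] →ₗ[k] k :=
  Finsupp.lapply h ∘ₗ (AddMonoidAlgebra.coeffLinearEquiv k).toLinearMap

theorem lcoeffT_T (h m : ℤ) : lcoeffT k h (T m) = if m = h then 1 else 0 := T_apply h m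

/-- a function of weight `h` at level `N` is homogeneous of degree `h + r N` -/
theorem level_mem_homsImage (h : ℤ) (N a : ℕ) (ha : (a : ℤ) = h + r * N) (p : MvPolynomial (Fin r × Fin r) k)
    (hw : TensorProduct.map LinearMap.id
        (CoordGrp.GLn.diag r k (fun _ => 1) : CoordGrp.GLn r k →ₗ[k] k[T;T⁻¹])
        (Coalgebra.comul (R := k) (level r k N p)) = level r k N p ⊗ₜ[k] T h) :
    level r k N p = level r k N (homogeneousComponent a p) := by
  let Φ := (Algebra.TensorProduct.map (AlgHom.id k (CoordGrp.GLn r k))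
        (CoordGrp.GLn.diag r k (fun _ => 1) : CoordGrp.GLn r k →ₐ[k] k[T;T⁻¹])).comp
          (Bialgebra.comulAlgHom k _)
  have hd : ∀ d, Φ (level r k N (homogeneousComponent d p)) =
      level r k N (homogeneousComponent d p) ⊗ₜ[k] T ((d : ℤ) - r * N) := by
    intro d
    have h1 : Φ (incl r k (homogeneousComponent d p)) = incl r k (homogeneousComponent d p) ⊗ₜ[k] T (d : ℤ) :=
      diag_one_weight p d
    have h2 : Φ CoordGrp.GLn.Dinv = CoordGrp.GLn.Dinv ⊗ₜ[k] T (-(r : ℤ)) := by
      show Algebra.TensorProduct.map _ _ (Coalgebra.comul (R := k) (CoordGrp.GLn.Dinv : CoordGrp.GLn r k)) = _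
      rw [CoordGrp.GLn.comul_Dinv, Algebra.TensorProduct.map_tmul]
      simp
    show Φ (incl r k (homogeneousComponent d p) * CoordGrp.GLn.Dinv ^ N) = _
    rw [map_mul, map_pow, h1, h2, Algebra.TensorProduct.tmul_pow, Algebra.TensorProduct.tmul_mul_tmul, T_pow,
      ← T_add]
    congr 2
    ring
  have hw' : Φ (level r k N p) = level r k N p ⊗ₜ[k] T h := hw
  have key := congrArg (slR (lcoeffT k h)) hw'
  rw [slR_tmul, lcoeffT_T, if_pos rfl, one_smul] at key
  rw [← key]
  conv_lhs => rw [← sum_homogeneousComponent p, map_sum, map_sum, map_sum]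
  rw [Finset.sum_congr rfl fun d _ => by rw [hd d, slR_tmul, lcoeffT_T]]
  rw [Finset.sum_eq_single a]
  · rw [if_pos (by omega), one_smul]
  · intro d _ hne
    rw [if_neg (by omega), zero_smul]
  · intro hnot
    rw [homogeneousComponent_eq_zero _ _ (by simpa using hnot)]
    simp

end

/-- projections from a direct sum are comodule maps -/
theorem isComodHom_proj {k : Type u} [CommRing k] {A : Type v} [AddCommGroup A] [Module k A] [Coalgebra k A]
    {ι : Type*} [Fintype ι] [DecidableEq ι] {X : ι → Type w} [∀ i, AddCommGroup (X i)] [∀ i, Module k (X i)]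
    (c : ∀ i, HopfRep.Comod k A (X i)) (i : ι) :
    @Hoch.IsComodHom k _ A _ _ _ (∀ i, X i) _ _ (ComodTens.Comod.pi c) (X i) _ _ (c i) (LinearMap.proj i) := by
  refine LinearMap.ext fun f => ?_
  simp only [LinearMap.comp_apply, LinearMap.proj_apply]
  rw [ComodTens.pi_coact, map_sum, Finset.sum_eq_single i]
  · rw [← LinearMap.rTensor_comp_apply]
    have : (LinearMap.proj i : (∀ i, X i) →ₗ[k] X i) ∘ₗ LinearMap.single k X i = LinearMap.id := by
      ext x; simp
    rw [this, LinearMap.rTensor_id]
    rfl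
  · intro j _ hj
    rw [← LinearMap.rTensor_comp_apply]
    have : (LinearMap.proj i : (∀ i, X i) →ₗ[k] X i) ∘ₗ LinearMap.single k X j = 0 := by
      ext x; simp [Pi.single_eq_of_ne hj.symm]
    rw [this, LinearMap.rTensor_zero, LinearMap.zero_apply]
  · intro h; exact absurd (Finset.mem_univ i) h

/-- twisting a morphism into the regular comodule -/
theorem isComodHom_twist {k : Type u} [CommRing k] {A : Type v} [CommRing A] [Bialgebra k A]
    {V : Type w} [AddCommGroup V] [Module k V] (c : HopfRep.Comod k A V) (g : A) (hg : IsGroupLikeElem k g)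
    {f : V →ₗ[k] A} (hf : @Hoch.IsComodHom k _ A _ _ _ V _ _ c A _ _ (HopfRep.Comod.regular k A) f) :
    @Hoch.IsComodHom k _ A _ _ _ V _ _ (ComodTens.Comod.twist c g hg) A _ _ (HopfRep.Comod.regular k A)
      (LinearMap.mulRight k g ∘ₗ f) := by
  refine LinearMap.ext fun v => ?_
  have hv := LinearMap.congr_fun hf v
  simp only [LinearMap.comp_apply] at hv ⊢
  show Coalgebra.comul (R := k) (f v * g) = _
  rw [ComodTens.comul_mul_of_isGroupLikeElem hg, show Coalgebra.comul (R := k) (f v) = _ from hv,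
    ComodTens.twist_coact]
  generalize c.coact v = x
  induction x with
  | zero => simp
  | tmul p q => simp
  | add y z hy hz => simp only [map_add, hy, hz]

end Groth.Agent.LinRed.GLn
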