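import Mathlib.RingTheory.Etale.Locus
import Mathlib.RingTheory.Etale.StandardEtale
import Mathlib.RingTheory.Unramified.LocalStructure
import Mathlib.RingTheory.Localization.Away.Lemmas
import Groth.Agent.Hensel.NormalAscent

/-!
# Unramified domains over normal domains are étale
-/

set_option autoImplicit false

open scoped Polynomial
open Groth.Agent.Hensel

universe u

namespace Groth.Agent.LinRed

variable {R E : Type u} [CommRing R] [IsDomain R] [IsIntegrallyClosed R] [CommRing E] [Algebra R E]
  [Algebra.Etale R E]

/-- In an étale algebra over a normal domain every element is the product of an idempotent and an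
element dividing a nonzero scalar on that idempotent. -/
theorem exists_idem_mul_eq (x : E) :
    ∃ (e v : E) (r : R), r ≠ 0 ∧ IsIdempotentElem e ∧ x * e = x ∧ x * v = r • e := by
  obtain ⟨r, v, hr, hv⟩ := exists_sq_mul_eq (R := R) x
  have tf : ∀ z : E, r • z = 0 → z = 0 := fun z hz ↦
    tmul_one_injective (R := R) (show z ⊗ₜ[R] (1 : FractionRing R) = (0 : E) ⊗ₜ[R] 1 by
      have hu : algebraMap R (FractionRing R) r ≠ 0 :=
        (map_ne_zero_iff _ (IsFractionRing.injective R _)).mpr hr
      have : z ⊗ₜ[R] (1 : FractionRing R) =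
          (r • z) ⊗ₜ[R] ((algebraMap R (FractionRing R) r)⁻¹) := by
        rw [TensorProduct.smul_tmul, Algebra.smul_def, mul_inv_cancel₀ hu]
      rw [this, hz, TensorProduct.zero_tmul, TensorProduct.zero_tmul])
  set h := x * v
  have hh : h * h = algebraMap R E r * h := by
    rw [← Algebra.smul_def, ← smul_mul_assoc, ← hv]
    ring
  obtain ⟨e, he⟩ := exists_eq_smul_of_scaleRoots hr (h := h)
    (P := Polynomial.X ^ 2 - Polynomial.X) (by monicity!) (by
      rw [show (Polynomial.X ^ 2 - Polynomial.X : E[X]).scaleRoots (algebraMap R E r) =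
        Polynomial.X ^ 2 - Polynomial.C (algebraMap R E r) * Polynomial.X from ?_]
      · simp [pow_two, hh]
      · rcases subsingleton_or_nontrivial E with hE | hE
        · exact Subsingleton.elim _ _
        have hd : (Polynomial.X ^ 2 - Polynomial.X : E[X]).natDegree = 2 := by compute_degree!
        ext i
        rw [Polynomial.coeff_scaleRoots, hd]
        rcases i with _ | _ | _ | i <;> simp [Polynomial.coeff_X, Polynomial.coeff_X_pow])
  refine ⟨e, v, r, hr, ?_, ?_, he⟩
  · refine sub_eq_zero.mp (tf _ (tf _ ?_))
    rw [he, smul_mul_smul_comm, ← Algebra.smul_def, smul_smul] at hh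
    rw [smul_sub, smul_sub, smul_smul, smul_smul, hh, sub_self]
  · refine sub_eq_zero.mp (tf _ ?_)
    rw [smul_sub, ← mul_smul_comm, ← he, sub_eq_zero, ← mul_assoc]
    exact hv

/-- The kernel of a map from an étale algebra over a normal domain to a domain over it is generated
by an idempotent. -/
theorem isIdempotentElem_ker [IsNoetherianRing R] {D : Type u} [CommRing D] [IsDomain D]
    [Algebra R D] (hinj : Function.Injective (algebraMap R D)) (φ : E →ₐ[R] D) :
    IsIdempotentElem (RingHom.ker φ) := by
  have : IsNoetherianRing E := Algebra.FiniteType.isNoetherianRing R E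
  refine le_antisymm Ideal.mul_le_left fun x hx ↦ ?_
  obtain ⟨e, v, r, hr, -, hxe, hxv⟩ := exists_idem_mul_eq (R := R) x
  rw [RingHom.mem_ker] at hx
  have he : e ∈ RingHom.ker φ := by
    rw [RingHom.mem_ker]
    have h1 := congrArg φ hxv
    rw [map_mul, hx, zero_mul, map_smul, Algebra.smul_def, eq_comm, mul_eq_zero,
      map_eq_zero_iff _ hinj] at h1
    exact h1.resolve_left hr
  rw [← hxe]
  exact Ideal.mul_mem_mul (RingHom.mem_ker.mpr hx) he

/-- **Unramified implies étale over a normal Noetherian domain**, for domains containing it. -/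
theorem isEtaleAt_of_isUnramifiedAt_of_isIntegrallyClosed {R A : Type u} [CommRing R] [IsDomain R]
    [IsIntegrallyClosed R] [IsNoetherianRing R] [CommRing A] [IsDomain A] [Algebra R A]
    [Algebra.FiniteType R A] (hinj : Function.Injective (algebraMap R A)) (q : Ideal A) [q.IsPrime]
    [Algebra.IsUnramifiedAt R q] : Algebra.IsEtaleAt R q := by
  have : Algebra.FinitePresentation R A := Algebra.FinitePresentation.of_finiteType.mp inferInstance
  obtain ⟨f, hfq, P, φ, hφ⟩ := Algebra.IsUnramifiedAt.exists_hasStandardEtaleSurjectionOn (R := R) q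
  have hf : f ≠ 0 := fun h ↦ hfq (h ▸ q.zero_mem)
  have hM : Submonoid.powers f ≤ nonZeroDivisors A := powers_le_nonZeroDivisors_of_noZeroDivisors hf
  have : IsDomain (Localization.Away f) := IsLocalization.isDomain_localization hM
  have hi : Function.Injective (algebraMap R (Localization.Away f)) := by
    rw [IsScalarTower.algebraMap_eq R A (Localization.Away f)]
    exact (IsLocalization.injective _ hM).comp hinj
  have : IsNoetherianRing P.Ring := Algebra.FiniteType.isNoetherianRing R P.Ring
  obtain ⟨e, he, hfe⟩ := (Ideal.isIdempotentElem_iff_of_fg _ (IsNoetherian.noetherian _)).mp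
    (isIdempotentElem_ker hi φ)
  let := φ.toRingHom.toAlgebra
  have : IsScalarTower R P.Ring (Localization.Away f) := .of_algHom φ
  have := IsLocalization.away_of_isIdempotentElem he.one_sub (S := Localization.Away f)
    (hfe.trans (by simp)) hφ
  have : Algebra.Etale P.Ring (Localization.Away f) := .of_isLocalizationAway (1 - e)
  have : Algebra.Etale R (Localization.Away f) := .comp R P.Ring _
  have hsub := Algebra.basicOpen_subset_etaleLocus_iff_etale.mpr this
  exact Algebra.mem_etaleLocus_iff.mp (@hsub ⟨q, ‹_›⟩ hfq)

end Groth.Agent.LinRed
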